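import Cfsg.Agent.Lib.KnownA.HermTwoGen.Gen
import Cfsg.Agent.Lib.Classical.HermMatrixSimple

/-!
# The monomial element, the torus element and the two generators
-/

set_option autoImplicit false
set_option linter.unusedSectionVars false

namespace CfsgLib.KnownA.HermTwoGen

open Module CfsgLib.Classical

noncomputable section

variable {F : Type*} [Field F] [Fintype F] {V : Type*} [AddCommGroup V] [Module F V]
  [FiniteDimensional F V] {σ : F →+* F} {B : V →ₛₗ[σ] V →ₗ[F] F} {k : ℕ}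
  (hB : IsHermitian B) (hN : B.SeparatingRight) (R : HFrame B k)
include hB hN

/-- The rotation of two adjacent pairs. -/
theorem exists_rot {i : ℕ} (hi : i + 1 < k) :
    ∃ g ∈ tGroup B, g.1 (R.E i) = R.E (i + 1) ∧ g.1 (R.E (i + 1)) = -R.E i ∧
      g.1 (R.Fv i) = R.Fv (i + 1) ∧ g.1 (R.Fv (i + 1)) = -R.Fv i ∧
      ∀ x, B (R.E i) x = 0 → B (R.Fv i) x = 0 → B (R.E (i + 1)) x = 0 →
        B (R.Fv (i + 1)) x = 0 → g.1 x = x := by
  have i0 : i < k := by omega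
  obtain ⟨X, hX⟩ := exists_isEich hB hN (l := 0) (R.qF i i0) (y := R.E (i + 1))
    (R.pFE hB i0 hi (by omega)) (by simp [R.qE (i + 1) hi])
  obtain ⟨Y, hY⟩ := exists_isEich hB hN (l := 0) (R.qF (i + 1) hi) (y := -R.E i)
    (by rw [map_neg, R.pFE hB hi i0 (by omega), neg_zero]) (by simp [R.qE i i0])
  have hdim : ∀ {g : isomGroup B} {d y : V}, IsEich g d y 0 → idet B g = 1 := fun h => h.idet hB
  have hex : 3 ≤ finrank F V → BigFixed σ ∨ 4 ≤ finrank F V := fun _ => by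
    right
    have hli : LinearIndependent F ![R.E i, R.E (i + 1), R.Fv i, R.Fv (i + 1)] := by
      rw [Fintype.linearIndependent_iff]
      intro c hc
      simp only [Fin.sum_univ_four, Matrix.cons_val] at hc
      have a0 := congrArg (B (R.Fv i)) hc
      have a1 := congrArg (B (R.Fv (i + 1))) hc
      have a2 := congrArg (B (R.E i)) hc
      have a3 := congrArg (B (R.E (i + 1))) hc
      simp [R.pFE_self hB i0, R.pFE_self hB hi, R.pFE hB i0 hi (by omega), R.pFE hB hi i0 (by omega),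
        R.qF i i0, R.qF (i + 1) hi, R.pFF i i0 _ hi, R.pFF _ hi i i0] at a0 a1
      simp [R.pEF_self i i0, R.pEF_self _ hi, R.pEF i i0 _ hi (by omega), R.pEF _ hi i i0 (by omega),
        R.qE i i0, R.qE (i + 1) hi, R.pEE i i0 _ hi, R.pEE _ hi i i0] at a2 a3
      intro j
      fin_cases j <;> simp_all
    simpa using hli.fintype_card_le_finrank
  refine ⟨X * Y * X, ?_, ?_, ?_, ?_, ?_, ?_⟩
  · rw [← hB.sIsom_eq_tGroup hN hex]
    refine mul_mem (mul_mem ?_ ?_) ?_ <;> exact MonoidHom.mem_ker.2 (hdim (by assumption))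
  all_goals intros
  all_goals
    simp_all [Subgroup.coe_mul, LinearEquiv.mul_apply, IsEich, R.qE i i0, R.qF i i0, R.qE (i + 1) hi,
      R.qF (i + 1) hi, R.pFE_self hB i0, R.pFE_self hB hi, R.pEF_self i i0, R.pEF_self (i + 1) hi,
      R.pFE hB i0 hi (by omega), R.pFE hB hi i0 (by omega), R.pEF i i0 (i + 1) hi (by omega),
      R.pEF (i + 1) hi i i0 (by omega), R.pEE i i0 (i + 1) hi, R.pEE (i + 1) hi i i0,
      R.pFF i i0 (i + 1) hi, R.pFF (i + 1) hi i i0]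

/-- The product of the rotations. -/
theorem exists_chain : ∀ j : ℕ, j < k → ∃ g ∈ tGroup B,
    (∀ i, i < j → g.1 (R.E i) = R.E (i + 1) ∧ g.1 (R.Fv i) = R.Fv (i + 1)) ∧
    g.1 (R.E j) = (-1 : F) ^ j • R.E 0 ∧ g.1 (R.Fv j) = (-1 : F) ^ j • R.Fv 0 ∧
    ∀ x, (∀ i, i ≤ j → B (R.E i) x = 0 ∧ B (R.Fv i) x = 0) → g.1 x = x := by
  intro j
  induction j with
  | zero =>
    intro _
    refine ⟨1, one_mem _, fun i hi => absurd hi (by omega), ?_, ?_, fun x _ => ?_⟩ <;> simp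
  | succ j ih =>
    intro hj
    obtain ⟨N, hNt, hNlt, hNE, hNF, hNfix⟩ := ih (by omega)
    obtain ⟨r, hr, rE, rE', rF, rF', rfix⟩ := exists_rot hB hN R hj
    refine ⟨N * r, mul_mem hNt hr, fun i hi => ?_, ?_, ?_, fun x hx => ?_⟩
    · rcases Nat.lt_succ_iff_lt_or_eq.1 hi with h | h
      · constructor
        · rw [Subgroup.coe_mul, LinearEquiv.mul_apply,
            rfix _ (R.pEE j (by omega) i (by omega)) (R.pFE hB (by omega) (by omega) (by omega))
              (R.pEE (j + 1) hj i (by omega)) (R.pFE hB hj (by omega) (by omega))]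
          exact (hNlt i h).1
        · rw [Subgroup.coe_mul, LinearEquiv.mul_apply,
            rfix _ (R.pEF j (by omega) i (by omega) (by omega)) (R.pFF j (by omega) i (by omega))
              (R.pEF (j + 1) hj i (by omega) (by omega)) (R.pFF (j + 1) hj i (by omega))]
          exact (hNlt i h).2
      · subst h
        constructor
        · rw [Subgroup.coe_mul, LinearEquiv.mul_apply, rE]
          exact hNfix _ fun l hl => ⟨R.pEE l (by omega) _ hj, R.pFE hB (by omega) hj (by omega)⟩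
        · rw [Subgroup.coe_mul, LinearEquiv.mul_apply, rF]
          exact hNfix _ fun l hl => ⟨R.pEF l (by omega) _ hj (by omega), R.pFF l (by omega) _ hj⟩
    · rw [Subgroup.coe_mul, LinearEquiv.mul_apply, rE', map_neg, hNE]
      module
    · rw [Subgroup.coe_mul, LinearEquiv.mul_apply, rF', map_neg, hNF]
      module
    · rw [Subgroup.coe_mul, LinearEquiv.mul_apply,
        rfix x (hx j (by omega)).1 (hx j (by omega)).2 (hx (j + 1) le_rfl).1 (hx (j + 1) le_rfl).2]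
      exact hNfix x fun l hl => hx l (by omega)

omit R in
/-- The exchange of a hyperbolic pair. -/
theorem exists_swap {e f : V} (he : B e e = 0) (hf : B f f = 0) (hef : B e f = 1) {β : F} (hβ : β ≠ 0)
    (hβ' : β + σ β = 0) :
    ∃ g ∈ tGroup B, g.1 e = β • f ∧ g.1 f = (-β⁻¹) • e ∧ ∀ x, B e x = 0 → B f x = 0 → g.1 x = x := by
  have hfe : B f e = 1 := by rw [← hB.symm, hef, map_one]
  have hσ : σ β = -β := by linear_combination hβ'
  obtain ⟨X, hX⟩ := hB.exists_uTv hN he (c := -β⁻¹) (by rw [map_neg, map_inv₀, hσ, inv_neg]; ring)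
  obtain ⟨Y, hY⟩ := hB.exists_uTv hN hf (c := β) hβ'
  refine ⟨X * Y * X, mul_mem (mul_mem hX.mem hY.mem) hX.mem, ?_, ?_, fun x h1 h2 => ?_⟩
  · simp only [Subgroup.coe_mul, LinearEquiv.mul_apply, hX.2.2, hY.2.2, map_add, map_smul, smul_eq_mul,
      he, hfe, hef, hf]
    match_scalars <;> field_simp <;> ring
  · simp only [Subgroup.coe_mul, LinearEquiv.mul_apply, hX.2.2, hY.2.2, map_add, map_smul, smul_eq_mul,
      he, hfe, hef, hf]
    match_scalars <;> field_simp <;> ring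
  · simp [Subgroup.coe_mul, LinearEquiv.mul_apply, hX.2.2, hY.2.2, h1, h2]

/-- The cycle. -/
theorem exists_cyc (hk : 1 ≤ k) {β : F} (hβ : β ≠ 0) (hβ' : β + σ β = 0) {r : F} (hr : r ≠ 0)
    {g : isomGroup B} (hg : g ∈ tGroup B) (gz : g.1 R.z = R.z2) (gz2 : g.1 R.z2 = r • R.z)
    (gfix : ∀ x, B R.z x = 0 → B R.z2 x = 0 → g.1 x = x) :
    ∃ w ∈ tGroup B, ∃ s t : F, HCyc R w s t r := by
  obtain ⟨N, hNt, hNlt, hNE, hNF, hNfix⟩ := exists_chain hB hN R (k - 1) (by omega)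
  have hk1 : k - 1 < k := by omega
  obtain ⟨S, hS, hSE, hSF, hSfix⟩ := exists_swap hB hN (R.qE _ hk1) (R.qF _ hk1) (R.pEF_self _ hk1) hβ hβ'
  refine ⟨N * (S * g), mul_mem hNt (mul_mem hS hg), β * (-1) ^ (k - 1), -β⁻¹ * (-1) ^ (k - 1),
    mul_ne_zero hβ (pow_ne_zero _ (neg_ne_zero.2 one_ne_zero)),
    mul_ne_zero (neg_ne_zero.2 (inv_ne_zero hβ)) (pow_ne_zero _ (neg_ne_zero.2 one_ne_zero)), hr,
    ?_, ?_, ?_, ?_, ?_, ?_⟩
  · intro i hi
    rw [Subgroup.coe_mul, LinearEquiv.mul_apply, Subgroup.coe_mul, LinearEquiv.mul_apply,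
      gfix _ (R.pzE hB (by omega)) (R.pz2E hB (by omega)),
      hSfix _ (R.pEE _ hk1 i (by omega)) (R.pFE hB hk1 (by omega) (by omega))]
    exact (hNlt i (by omega)).1
  · intro i hi
    rw [Subgroup.coe_mul, LinearEquiv.mul_apply, Subgroup.coe_mul, LinearEquiv.mul_apply,
      gfix _ (R.pzF hB (by omega)) (R.pz2F hB (by omega)),
      hSfix _ (R.pEF _ hk1 i (by omega) (by omega)) (R.pFF _ hk1 i (by omega))]
    exact (hNlt i (by omega)).2
  · rw [Subgroup.coe_mul, LinearEquiv.mul_apply, Subgroup.coe_mul, LinearEquiv.mul_apply,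
      gfix _ (R.pzE hB hk1) (R.pz2E hB hk1), hSE, map_smul, hNF, smul_smul]
  · rw [Subgroup.coe_mul, LinearEquiv.mul_apply, Subgroup.coe_mul, LinearEquiv.mul_apply,
      gfix _ (R.pzF hB hk1) (R.pz2F hB hk1), hSF, map_smul, hNE, smul_smul]
  · rw [Subgroup.coe_mul, LinearEquiv.mul_apply, Subgroup.coe_mul, LinearEquiv.mul_apply, gz,
      hSfix _ (R.pEz2 _ hk1) (R.pFz2 _ hk1)]
    exact hNfix _ fun i hi => ⟨R.pEz2 i (by omega), R.pFz2 i (by omega)⟩
  · rw [Subgroup.coe_mul, LinearEquiv.mul_apply, Subgroup.coe_mul, LinearEquiv.mul_apply, gz2,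
      map_smul, hSfix _ (R.pEz _ hk1) (R.pFz _ hk1), map_smul]
    rw [hNfix _ fun i hi => ⟨R.pEz i (by omega), R.pFz i (by omega)⟩]

omit hB hN in
/-- All frame vectors are eigenvectors. -/
def IsDiag (g : isomGroup B) : Prop :=
  (∀ i, i < k → (∃ c : F, g.1 (R.E i) = c • R.E i) ∧ ∃ c : F, g.1 (R.Fv i) = c • R.Fv i) ∧
    (∃ c : F, g.1 R.z = c • R.z) ∧ ∃ c : F, g.1 R.z2 = c • R.z2

omit hN in
theorem IsDiag.commute {g g' : isomGroup B} (hg : IsDiag R g) (hg' : IsDiag R g') : Commute g g' := by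
  have key : ∀ v : V, (∃ c : F, g.1 v = c • v) → (∃ c : F, g'.1 v = c • v) →
      (g * g').1 v = (g' * g).1 v := by
    rintro v ⟨c, hc⟩ ⟨c', hc'⟩
    simp only [Subgroup.coe_mul, LinearEquiv.mul_apply, hc, hc', map_smul, smul_smul, mul_comm]
  refine Subtype.ext (LinearEquiv.ext fun x => ?_)
  have hx := R.span_eq x
  induction hx using Submodule.span_induction with
  | mem v hv =>
    rcases hv with (⟨i, hi, rfl⟩ | ⟨i, hi, rfl⟩) | rfl | rfl
    · exact key _ (hg.1 i hi).1 (hg'.1 i hi).1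
    · exact key _ (hg.1 i hi).2 (hg'.1 i hi).2
    · exact key _ hg.2.1 hg'.2.1
    · exact key _ hg.2.2 hg'.2.2
  | zero => simp
  | add a b _ _ h1 h2 => rw [map_add, map_add, h1, h2]
  | smul c a _ h1 => rw [map_smul, map_smul, h1]

omit hN in
theorem conj_eigen {h w : isomGroup B} {v v' : V} {c e : F} (hw : w.1 v = e • v') (he : e ≠ 0)
    (hv : h.1 v = c • v) : (w * h * w⁻¹).1 v' = c • v' := by
  have h1 : (w * h * w⁻¹).1 (w.1 v) = w.1 (h.1 v) := by
    show w.1 (h.1 ((w⁻¹).1 (w.1 v))) = _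
    rw [show (w⁻¹).1 (w.1 v) = v from w.1.symm_apply_apply v]
  rw [hv, map_smul, hw, map_smul, smul_comm c e v'] at h1
  have := congrArg (fun x => e⁻¹ • x) h1
  simpa [inv_smul_smul₀ he] using this

omit hN in
theorem IsDiag.conj (hk : 1 ≤ k) {h w : isomGroup B} {s t r : F} (hC : HCyc R w s t r)
    (hh : IsDiag R h) : IsDiag R (w * h * w⁻¹) := by
  refine ⟨fun i hi => ?_, ?_, ?_⟩
  · rcases Nat.eq_zero_or_pos i with rfl | h0
    · obtain ⟨⟨c, hc⟩, c', hc'⟩ := hh.1 (k - 1) (by omega)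
      exact ⟨⟨c', conj_eigen hB hC.wF_last hC.t_ne hc'⟩, c, conj_eigen hB hC.wE_last hC.s_ne hc⟩
    · obtain ⟨j, rfl⟩ : ∃ j, i = j + 1 := ⟨i - 1, by omega⟩
      obtain ⟨⟨c, hc⟩, c', hc'⟩ := hh.1 j (by omega)
      exact ⟨⟨c, conj_eigen hB (by rw [hC.wE j hi, one_smul]) one_ne_zero hc⟩,
        c', conj_eigen hB (by rw [hC.wF j hi, one_smul]) one_ne_zero hc'⟩
  · obtain ⟨c, hc⟩ := hh.2.2
    exact ⟨c, conj_eigen hB hC.wz2 hC.r_ne hc⟩
  · obtain ⟨c, hc⟩ := hh.2.1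
    exact ⟨c, conj_eigen hB (by rw [hC.wz, one_smul]) one_ne_zero hc⟩

/-- The torus element on two pairs. -/
theorem exists_pairs {j : ℕ} (hj : 1 ≤ j) (hjk : j < k) {l : F} (hl : l ≠ 0) :
    ∃ h : isomGroup B, idet B h = 1 ∧ IsDiag R h ∧
      h.1 (R.E 0) = l • R.E 0 ∧ h.1 (R.E j) = l⁻¹ • R.E j ∧ h.1 (R.Fv j) = σ l • R.Fv j ∧
      (∀ i, i < k → i ≠ 0 → i ≠ j → h.1 (R.E i) = R.E i ∧ h.1 (R.Fv i) = R.Fv i) ∧
      h.1 R.z = R.z ∧ h.1 R.z2 = R.z2 := by
  have k0 : 0 < k := by omega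
  obtain ⟨g, gE, gF, gfix, gdet⟩ := hB.exists_torus hN (R.qE 0 k0) (R.qF 0 k0) (R.pEF_self 0 k0) hl
  obtain ⟨g', gE', gF', gfix', gdet'⟩ :=
    hB.exists_torus hN (R.qE j hjk) (R.qF j hjk) (R.pEF_self j hjk) (inv_ne_zero hl)
  have hne : (0 : ℕ) ≠ j := by omega
  have a1 : (g * g').1 (R.E 0) = l • R.E 0 := by
    rw [Subgroup.coe_mul, LinearEquiv.mul_apply,
      gfix' _ (R.pEE j hjk 0 k0) (R.pFE hB hjk k0 hne.symm), gE]
  have a1' : (g * g').1 (R.Fv 0) = (σ l)⁻¹ • R.Fv 0 := by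
    rw [Subgroup.coe_mul, LinearEquiv.mul_apply,
      gfix' _ (R.pEF j hjk 0 k0 hne.symm) (R.pFF j hjk 0 k0), gF]
  have a2 : (g * g').1 (R.E j) = l⁻¹ • R.E j := by
    rw [Subgroup.coe_mul, LinearEquiv.mul_apply, gE', map_smul,
      gfix _ (R.pEE 0 k0 j hjk) (R.pFE hB k0 hjk hne)]
  have a2' : (g * g').1 (R.Fv j) = σ l • R.Fv j := by
    rw [Subgroup.coe_mul, LinearEquiv.mul_apply, gF', map_smul,
      gfix _ (R.pEF 0 k0 j hjk hne) (R.pFF 0 k0 j hjk), map_inv₀, inv_inv]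
  have a3 : ∀ i, i < k → i ≠ 0 → i ≠ j → (g * g').1 (R.E i) = R.E i ∧ (g * g').1 (R.Fv i) = R.Fv i :=
    fun i hi h0 hij => by
    constructor
    · rw [Subgroup.coe_mul, LinearEquiv.mul_apply,
        gfix' _ (R.pEE j hjk i hi) (R.pFE hB hjk hi hij.symm),
        gfix _ (R.pEE 0 k0 i hi) (R.pFE hB k0 hi h0.symm)]
    · rw [Subgroup.coe_mul, LinearEquiv.mul_apply,
        gfix' _ (R.pEF j hjk i hi hij.symm) (R.pFF j hjk i hi),
        gfix _ (R.pEF 0 k0 i hi h0.symm) (R.pFF 0 k0 i hi)]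
  have a4 : (g * g').1 R.z = R.z := by
    rw [Subgroup.coe_mul, LinearEquiv.mul_apply, gfix' _ (R.pEz j hjk) (R.pFz j hjk),
      gfix _ (R.pEz 0 k0) (R.pFz 0 k0)]
  have a5 : (g * g').1 R.z2 = R.z2 := by
    rw [Subgroup.coe_mul, LinearEquiv.mul_apply, gfix' _ (R.pEz2 j hjk) (R.pFz2 j hjk),
      gfix _ (R.pEz2 0 k0) (R.pFz2 0 k0)]
  refine ⟨g * g', ?_, ⟨fun i hi => ?_, ⟨1, by rw [a4, one_smul]⟩, 1, by rw [a5, one_smul]⟩, a1, a2, a2',
    a3, a4, a5⟩
  · rw [map_mul, gdet, gdet', map_inv₀]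
    have : σ l ≠ 0 := (map_ne_zero σ).2 hl
    field_simp
  · by_cases h0 : i = 0
    · subst h0; exact ⟨⟨_, a1⟩, _, a1'⟩
    by_cases hij : i = j
    · subst hij; exact ⟨⟨_, a2⟩, _, a2'⟩
    exact ⟨⟨1, by rw [(a3 i hi h0 hij).1, one_smul]⟩, 1, by rw [(a3 i hi h0 hij).2, one_smul]⟩

omit R in
theorem closure_eq {h w u : isomGroup B} (hh : idet B h = 1) (hw : w ∈ tGroup B) (hu : idet B u = 1)
    (hsI : sIsom B = tGroup B) (gen : tGroup B ≤ Subgroup.closure {h, u * w}) :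
    Subgroup.closure {h, u * w} = sIsom B := by
  refine le_antisymm ((Subgroup.closure_le _).2 ?_) (hsI ▸ gen)
  rintro x (rfl | rfl)
  · exact MonoidHom.mem_ker.2 hh
  · exact mul_mem (MonoidHom.mem_ker.2 hu) (hsI ▸ hw)

variable {q : ℕ} (hF : Fintype.card F = q ^ 2) (hσ : ∀ x, σ x = x ^ q)
include hF hσ

omit hN R in
theorem exists_gen_facts : ∃ l : F, l ≠ 0 ∧ 2 ≤ q ∧ orderOf l = q ^ 2 - 1 ∧ σ l ≠ 1 ∧ l ≠ 1 ∧
    l * l ≠ 1 ∧ σ l * l⁻¹ ≠ 1 ∧ orderOf (σ l) = q ^ 2 - 1 ∧ orderOf (σ l * l⁻¹) = q + 1 := by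
  have hq := two_le_of_card_sq hF
  obtain ⟨ω, hω⟩ := IsCyclic.exists_generator (α := Fˣ)
  have hord : orderOf ω = q ^ 2 - 1 := by
    rw [orderOf_eq_card_of_forall_mem_zpowers hω, Nat.card_units, Nat.card_eq_fintype_card, hF]
  have hl : orderOf (ω : F) = q ^ 2 - 1 := by rw [orderOf_units, hord]
  have h3 : 3 ≤ q ^ 2 - 1 := by
    have : 2 ^ 2 ≤ q ^ 2 := Nat.pow_le_pow_left hq 2
    omega
  have hl1 : (ω : F) ≠ 1 := fun e => by rw [e, orderOf_one] at hl; omega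
  have hll : (ω : F) * ω ≠ 1 := fun e => by
    have := orderOf_dvd_of_pow_eq_one (show (ω : F) ^ 2 = 1 by rw [pow_two, e])
    rw [hl] at this
    have := Nat.le_of_dvd (by norm_num) this
    omega
  have hσord : orderOf (σ (ω : F)) = q ^ 2 - 1 := by
    rw [← hl]
    exact orderOf_injective σ.toMonoidHom σ.injective (ω : F)
  have heq : σ (ω : F) * (ω : F)⁻¹ = (ω : F) ^ (q - 1) := by
    rw [hσ, mul_inv_eq_iff_eq_mul₀ ω.ne_zero, ← pow_succ, Nat.sub_add_cancel (by omega : 1 ≤ q)]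
  have hordz : orderOf ((ω : F) ^ (q - 1)) = q + 1 := by
    rw [orderOf_pow' _ (by omega), hl]
    have : q ^ 2 - 1 = (q + 1) * (q - 1) := by
      obtain ⟨m, rfl⟩ : ∃ m, q = m + 1 := ⟨q - 1, by omega⟩
      simp only [Nat.add_sub_cancel]
      rw [Nat.sub_eq_iff_eq_add (Nat.one_le_pow _ _ (by omega))]
      ring
    rw [this, Nat.gcd_mul_left_left, Nat.mul_div_cancel _ (by omega)]
  refine ⟨(ω : F), ω.ne_zero, hq, hl, ?_, hl1, hll, ?_, hσord, by rw [heq, hordz]⟩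
  · exact fun e => hl1 ((map_eq_one_iff σ σ.injective).1 e)
  · intro e
    rw [heq] at e
    rw [e, orderOf_one] at hordz
    omega

/-- An even number of pairs. -/
theorem even_gen (hk : 2 ≤ k) (hke : Even k) (hz : R.z = 0) (hz2 : R.z2 = 0)
    (hsI : sIsom B = tGroup B) : ∃ a b : isomGroup B, Subgroup.closure {a, b} = sIsom B := by
  obtain ⟨β, hβ, hβ'⟩ := hB.conj.exists_trace_zero
  obtain ⟨w, hwT, s, t, hC⟩ := exists_cyc hB hN R (by omega) hβ hβ' (r := (1 : F)) one_ne_zero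
    (one_mem _) (by rw [hz, hz2]; simp) (by rw [hz, hz2]; simp) (fun x _ _ => rfl)
  obtain ⟨l, hl, hq, hlo, hσl1, hl1, hll, hζ1, hσo, hζo⟩ := exists_gen_facts hB hF hσ
  obtain ⟨h, hdet, hdiag, hE0, hEj, hFj, hrest, -, -⟩ := exists_pairs hB hN R le_rfl (show 1 < k by omega) hl
  obtain ⟨u, hu⟩ := exists_isEich hB hN (l := 0) (R.qE 0 (by omega)) (y := R.E 1)
    (R.pEE 0 (by omega) 1 (by omega)) (by simp [R.qE 1 (by omega)])
  refine ⟨h, u * w, closure_eq hB hN hdet hwT (hu.idet hB) hsI ?_⟩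
  set H := Subgroup.closure ({h, u * w} : Set (isomGroup B))
  have hwE1 : w.1 (R.E 0) = (1 : F) • R.E 1 := by rw [hC.wE 0 (by omega), one_smul]
  have hμ' := conj_eigen hB hwE1 one_ne_zero hE0
  obtain ⟨a', ha', ha'0, ha'sep⟩ : ∃ a', h.1 (R.Fv (k - 1)) = a' • R.Fv (k - 1) ∧ a' ≠ 0 ∧ σ a' * l ≠ 1 := by
    by_cases h2 : k = 2
    · subst h2
      exact ⟨σ l, hFj, (map_ne_zero σ).2 hl, by rw [hB.conj.invol]; exact hll⟩
    · exact ⟨1, by rw [(hrest (k - 1) (by omega) (by omega) (by omega)).2, one_smul], one_ne_zero,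
        by rw [map_one, one_mul]; exact hl1⟩
  have G : Gens H (R.E 0) (R.E 1) h w u l l⁻¹ a' l :=
    ⟨hl, ha'0, hE0, hEj, conj_eigen hB hC.wF_last hC.t_ne ha', hμ',
      IsDiag.commute hB R hdiag (IsDiag.conj hB R (by omega) hC hdiag),
      Subgroup.subset_closure (by simp), Subgroup.subset_closure (by simp), hζ1, ha'sep⟩
  have hline : Line H (R.E 0) (R.E 1) := G.line hB hN hF (inv_ne_zero hl) hu (R.qE 1 (by omega))
    (by rw [hζo]; omega)
  have huH : u ∈ H := hline.2.2.2 1 u (by rwa [one_smul])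
  have hwH : w ∈ H := by
    have := mul_mem (inv_mem huH) G.memb
    rwa [inv_mul_cancel_left] at this
  exact hC.even_case hB hN hwH hk hke hz hz2 hline

/-- An even number of pairs and one more isotropic pair. -/
theorem pair_gen (hk : 2 ≤ k) (hke : Even k) {β : F} (hβ : β ≠ 0) (hβ' : β + σ β = 0) {f : V}
    (hf : B f f = 0) (hzz : B R.z R.z = 0) (hzf : B R.z f = 1) (hz2 : R.z2 = β • f)
    (hsI : sIsom B = tGroup B) : ∃ a b : isomGroup B, Subgroup.closure {a, b} = sIsom B := by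
  obtain ⟨S, hS, hSz, hSf, hSfix⟩ := exists_swap hB hN hzz hf hzf hβ hβ'
  obtain ⟨w, hwT, s, t, hC⟩ := exists_cyc hB hN R (by omega) hβ hβ' (r := -1) (by simp) hS
    (by rw [hz2, hSz]) (by rw [hz2, map_smul, hSf, smul_smul]; congr 1; field_simp)
    (fun x h1 h2 => hSfix x h1 (by
      rw [hz2, map_smulₛₗ, LinearMap.smul_apply, smul_eq_mul] at h2
      exact (mul_eq_zero.1 h2).resolve_left ((map_ne_zero σ).2 hβ)))
  obtain ⟨l, hl, hq, hlo, hσl1, hl1, hll, hζ1, hσo, hζo⟩ := exists_gen_facts hB hF hσ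
  obtain ⟨h, hdet, hdiag, hE0, -, hFj, -, hzfix, hz2fix⟩ :=
    exists_pairs hB hN R (show 1 ≤ k - 1 by omega) (by omega) hl
  obtain ⟨u, hu⟩ := exists_isEich hB hN (l := 0) (R.qE 0 (by omega)) (y := R.z)
    (R.pEz 0 (by omega)) (by simp [hzz])
  refine ⟨h, u * w, closure_eq hB hN hdet hwT (hu.idet hB) hsI ?_⟩
  set H := Subgroup.closure ({h, u * w} : Set (isomGroup B))
  have G : Gens H (R.E 0) R.z h w u l 1 (σ l) 1 :=
    ⟨hl, (map_ne_zero σ).2 hl, hE0, by rw [hzfix, one_smul], conj_eigen hB hC.wF_last hC.t_ne hFj,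
      conj_eigen hB hC.wz2 hC.r_ne (by rw [hz2fix, one_smul]),
      IsDiag.commute hB R hdiag (IsDiag.conj hB R (by omega) hC hdiag),
      Subgroup.subset_closure (by simp), Subgroup.subset_closure (by simp),
      by rw [mul_one]; exact hσl1, by rw [mul_one, hB.conj.invol]; exact hl1⟩
  have hline : Line H (R.E 0) R.z := G.line hB hN hF one_ne_zero hu hzz (by
    rw [mul_one, hσo]
    have : 2 * q ≤ q ^ 2 := by rw [pow_two]; exact Nat.mul_le_mul_right q hq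
    omega)
  have huH : u ∈ H := hline.2.2.2 1 u (by rwa [one_smul])
  have hwH : w ∈ H := by
    have := mul_mem (inv_mem huH) G.memb
    rwa [inv_mul_cancel_left] at this
  refine hC.pair_case hB hN hwH hk hke hzz ?_ ?_ hline
  · rw [hz2, map_smul, hzf, smul_eq_mul, mul_one]; exact hβ
  · rw [hz2, hB.smul_self, hf, mul_zero]

/-- Pairs and a vector of non-zero norm. -/
theorem odd_gen (hk : 1 ≤ k) (h3 : k = 1 → 3 ≤ q) (hz2 : R.z2 = R.z) (hzz : B R.z R.z ≠ 0)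
    (hsI : sIsom B = tGroup B) : ∃ a b : isomGroup B, Subgroup.closure {a, b} = sIsom B := by
  obtain ⟨β, hβ, hβ'⟩ := hB.conj.exists_trace_zero
  obtain ⟨w, hwT, s, t, hC⟩ := exists_cyc hB hN R hk hβ hβ' (r := (1 : F)) one_ne_zero
    (one_mem _) (by rw [hz2]; rfl) (by rw [hz2, one_smul]; rfl) (fun x _ _ => rfl)
  obtain ⟨l, hl, hq, hlo, hσl1, hl1, hll, hζ1, hσo, hζo⟩ := exists_gen_facts hB hF hσ
  obtain ⟨m, hm⟩ := hB.conj.exists_trace_eq (a := -B R.z R.z) (by rw [map_neg, hB.self_fixed])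
  obtain ⟨u, hu⟩ := exists_isEich hB hN (l := m) (R.qE 0 (by omega)) (R.pEz 0 (by omega))
    (by rw [hm]; ring)
  have h2q : 2 * q ≤ q ^ 2 := by rw [pow_two]; exact Nat.mul_le_mul_right q hq
  obtain ⟨h, hdet, hdiag, a, μ, a', hane, hμne, ha'ne, hE0, hzμ, hFlast, hsep, hsep', hord⟩ :
      ∃ h : isomGroup B, idet B h = 1 ∧ IsDiag R h ∧ ∃ a μ a' : F, a ≠ 0 ∧ μ ≠ 0 ∧ a' ≠ 0 ∧
        h.1 (R.E 0) = a • R.E 0 ∧ h.1 R.z = μ • R.z ∧ h.1 (R.Fv (k - 1)) = a' • R.Fv (k - 1) ∧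
        σ a * μ ≠ 1 ∧ σ a' * μ ≠ 1 ∧ q ≤ orderOf (σ a * μ) := by
    by_cases hk1 : k = 1
    · subst hk1
      have hq3 := h3 rfl
      have hσl : σ l ≠ 0 := (map_ne_zero σ).2 hl
      obtain ⟨g, gE, gF, gfix, gdet⟩ := hB.exists_torus hN (R.qE 0 hk) (R.qF 0 hk) (R.pEF_self 0 hk) hl
      obtain ⟨g', gz, gdet'⟩ := hB.exists_qr hN hzz (l := σ l / l) (by
        rw [map_div₀, hB.conj.invol]; field_simp)
      have b1 : (g * g').1 (R.E 0) = l • R.E 0 := by
        rw [Subgroup.coe_mul, LinearEquiv.mul_apply, gz, R.pzE hB hk, mul_zero, zero_smul, add_zero, gE]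
      have b2 : (g * g').1 (R.Fv 0) = (σ l)⁻¹ • R.Fv 0 := by
        rw [Subgroup.coe_mul, LinearEquiv.mul_apply, gz, R.pzF hB hk, mul_zero, zero_smul, add_zero, gF]
      have b3 : (g * g').1 R.z = (σ l / l) • R.z := by
        rw [Subgroup.coe_mul, LinearEquiv.mul_apply, gz, div_mul_cancel₀ _ hzz, map_add, map_smul,
          gfix _ (R.pEz 0 hk) (R.pFz 0 hk)]
        module
      have e1 : σ l * (σ l / l) = l ^ (2 * q - 1) := by
        rw [hσ]
        field_simp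
        rw [← pow_succ', ← pow_mul]
        congr 1
        omega
      have hgcd : Nat.gcd (q ^ 2 - 1) (2 * q - 1) ∣ 3 := by
        have d1 : ((Nat.gcd (q ^ 2 - 1) (2 * q - 1) : ℕ) : ℤ) ∣ ((q ^ 2 - 1 : ℕ) : ℤ) :=
          Int.natCast_dvd_natCast.2 (Nat.gcd_dvd_left _ _)
        have d2 : ((Nat.gcd (q ^ 2 - 1) (2 * q - 1) : ℕ) : ℤ) ∣ ((2 * q - 1 : ℕ) : ℤ) :=
          Int.natCast_dvd_natCast.2 (Nat.gcd_dvd_right _ _)
        rw [Nat.cast_sub (by omega)] at d1 d2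
        push_cast at d1 d2
        have := dvd_sub (d2.mul_right (2 * (q : ℤ) + 1)) (d1.mul_left 4)
        rw [show (2 * (q : ℤ) - 1) * (2 * q + 1) - 4 * (q ^ 2 - 1) = 3 by ring] at this
        exact_mod_cast this
      have hordq : q ≤ orderOf (l ^ (2 * q - 1)) := by
        rw [orderOf_pow' _ (by omega), hlo]
        have hg3 : Nat.gcd (q ^ 2 - 1) (2 * q - 1) = 1 ∨ Nat.gcd (q ^ 2 - 1) (2 * q - 1) = 3 :=
          (Nat.dvd_prime Nat.prime_three).1 hgcd
        rcases hg3 with hg | hg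
        · rw [hg, Nat.div_one]; omega
        · rw [hg]
          have h5 : q = 3 ∨ 4 * q ≤ q ^ 2 := by
            rcases Nat.lt_or_ge q 4 with h | h
            · left; omega
            · right; rw [pow_two]; exact Nat.mul_le_mul_right q h
          rcases h5 with h5 | h5
          · subst h5; norm_num at hg
          · rw [Nat.le_div_iff_mul_le (by norm_num)]; omega
      refine ⟨g * g', ?_, ⟨fun i hi => ?_, ⟨_, b3⟩, ?_⟩, l, σ l / l, (σ l)⁻¹, hl, div_ne_zero hσl hl,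
        inv_ne_zero hσl, b1, b3, b2, ?_, ?_, by rwa [e1]⟩
      · rw [map_mul, gdet, gdet']; field_simp
      · obtain rfl : i = 0 := by omega
        exact ⟨⟨_, b1⟩, _, b2⟩
      · rw [hz2]; exact ⟨_, b3⟩
      · rw [e1]
        intro e
        rw [e, orderOf_one] at hordq
        omega
      · intro e
        rw [map_inv₀, hB.conj.invol, hσ] at e
        have e' : l ^ (q - 2) = 1 := by
          obtain ⟨j, rfl⟩ : ∃ j, q = j + 2 := ⟨q - 2, by omega⟩
          field_simp at e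
          rw [Nat.add_sub_cancel]
          refine mul_right_cancel₀ (pow_ne_zero 2 hl) ?_
          linear_combination e
        have := Nat.le_of_dvd (by omega) (hlo ▸ orderOf_dvd_of_pow_eq_one e')
        omega
    · obtain ⟨g, gdet, gdiag, gE, -, gF, -, gz, -⟩ :=
        exists_pairs hB hN R (show 1 ≤ k - 1 by omega) (by omega) hl
      exact ⟨g, gdet, gdiag, l, 1, σ l, hl, one_ne_zero, (map_ne_zero σ).2 hl, gE, by rw [gz, one_smul], gF,
        by rw [mul_one]; exact hσl1, by rw [mul_one, hB.conj.invol]; exact hl1,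
        by rw [mul_one, hσo]; omega⟩
  refine ⟨h, u * w, closure_eq hB hN hdet hwT (hu.idet hB) hsI ?_⟩
  set H := Subgroup.closure ({h, u * w} : Set (isomGroup B))
  have G : Gens H (R.E 0) R.z h w u a μ a' μ :=
    ⟨hane, ha'ne, hE0, hzμ, conj_eigen hB hC.wF_last hC.t_ne hFlast,
      conj_eigen hB (by rw [hC.wz, one_smul, hz2]) one_ne_zero hzμ,
      IsDiag.commute hB R hdiag (IsDiag.conj hB R hk hC hdiag),
      Subgroup.subset_closure (by simp), Subgroup.subset_closure (by simp), hsep, hsep'⟩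
  have hall : ∀ c : F, Has H (R.E 0) (c • R.z) := G.hasAll hB hN hF hμne hu hord
  have hT : TFull H (R.E 0) := TFull.of_has hB hall hall hzz
  obtain ⟨g, hgH, m', hg⟩ := hall 1
  rw [one_smul] at hg
  have h1 := hu.mul hB (hg.inv hB)
  rw [add_neg_cancel] at h1
  have huH : u ∈ H := by
    have := mul_mem (hT _ _ h1) hgH
    rwa [inv_mul_cancel_right] at this
  have hwH : w ∈ H := by
    have := mul_mem (inv_mem huH) G.memb
    rwa [inv_mul_cancel_left] at this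
  exact hC.odd_case hB hN hwH hk hz2 hzz hT hall

end

end CfsgLib.KnownA.HermTwoGen
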