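import Cfsg.Agent.Lib.Classical.HermGen

/-!
# Eichler transformations of Hermitian forms inside a subgroup
-/

set_option autoImplicit false
set_option linter.unusedSectionVars false

namespace CfsgLib.KnownA.HermTwoGen

open Module CfsgLib.Classical

noncomputable section

variable {F : Type*} [Field F] {V : Type*} [AddCommGroup V] [Module F V] [FiniteDimensional F V]
  {σ : F →+* F} {B : V →ₛₗ[σ] V →ₗ[F] F}

/-- The Eichler transformation with parameters `d`, `y`, `l`. -/
def IsEich (g : isomGroup B) (d y : V) (l : F) : Prop :=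
  B d d = 0 ∧ B d y = 0 ∧ l + σ l + B y y = 0 ∧
    ∀ v, g.1 v = v + B d v • y + (-(B y v) + l * B d v) • d

variable {g g' : isomGroup B} {d y y' e x : V} {l l' c : F} {H : Subgroup (isomGroup B)}

theorem IsEich.unique (h : IsEich g d y l) (h' : IsEich g' d y l) : g = g' :=
  Subtype.ext (LinearEquiv.ext fun v => (h.2.2.2 v).trans (h'.2.2.2 v).symm)

theorem isEich_one (hd : B d d = 0) : IsEich (1 : isomGroup B) d 0 0 :=
  ⟨hd, map_zero _, by simp, fun v => by show v = _; simp⟩

theorem IsEich.uTv (h : IsEich g d 0 c) : IsUTv g d c :=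
  ⟨h.1, by simpa using h.2.2.1, fun v => by rw [h.2.2.2]; simp⟩

theorem isEich_of_uTv (h : IsUTv g d c) : IsEich g d 0 c :=
  ⟨h.1, map_zero _, by simp [h.2.1], fun v => by rw [h.2.2]; simp⟩

variable (hB : IsHermitian B)
include hB

theorem flip_zero (h : B d y = 0) : B y d = 0 := hB.isRefl _ _ h

theorem IsEich.mul (h : IsEich g d y l) (h' : IsEich g' d y' l') :
    IsEich (g * g') d (y + y') (l + l' - B y y') := by
  obtain ⟨hd, hy, hl, hg⟩ := h
  obtain ⟨-, hy', hl', hg'⟩ := h'
  refine ⟨hd, by simp [hy, hy'], ?_, fun v => ?_⟩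
  · simp only [map_add, map_sub, LinearMap.add_apply, hB.symm]
    linear_combination hl + hl'
  · show g.1 (g'.1 v) = _
    simp only [hg, hg', map_add, map_smul, LinearMap.add_apply, smul_eq_mul, hd, hy',
      flip_zero hB hy]
    match_scalars <;> ring

theorem IsEich.inv (h : IsEich g d y l) : IsEich g⁻¹ d (-y) (σ l) := by
  obtain ⟨hd, hy, hl, hg⟩ := h
  refine ⟨hd, by simp [hy], ?_, fun v => ?_⟩
  · simp only [map_neg, LinearMap.neg_apply, neg_neg, hB.conj.invol]
    linear_combination hl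
  · apply g.1.injective
    rw [show g.1 ((g⁻¹).1 v) = v from g.1.apply_symm_apply v, hg]
    simp only [map_add, map_smul, map_neg, LinearMap.neg_apply, smul_eq_mul, hd, hy, flip_zero hB hy]
    match_scalars <;> first | ring1 | linear_combination -(B d v) * hl | linear_combination (B d v) * hl

theorem IsEich.conj (h : IsEich g d y l) (k : isomGroup B) :
    IsEich (k * g * k⁻¹) (k.1 d) (k.1 y) l := by
  obtain ⟨hd, hy, hl, hg⟩ := h
  refine ⟨by rw [isomGroup_apply]; exact hd, by rw [isomGroup_apply]; exact hy,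
    by rw [isomGroup_apply]; exact hl, fun v => ?_⟩
  obtain ⟨w, rfl⟩ := k.1.surjective v
  rw [isomGroup_apply, isomGroup_apply]
  show k.1 (g.1 ((k⁻¹).1 (k.1 w))) = _
  rw [show (k⁻¹).1 (k.1 w) = w from k.1.symm_apply_apply w, hg]
  simp [map_smul]

theorem IsEich.of_smul {t : F} (h : IsEich g (t • d) y l) (ht : t ≠ 0) :
    IsEich g d (σ t • y) (t * σ t * l) := by
  obtain ⟨hd, hy, hl, hg⟩ := h
  have hσt : σ t ≠ 0 := (map_ne_zero σ).2 ht
  rw [hB.smul_self, mul_eq_zero] at hd
  simp only [map_smulₛₗ, LinearMap.smul_apply, smul_eq_mul, mul_eq_zero] at hy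
  refine ⟨hd.resolve_left (mul_ne_zero ht hσt), by simp [hy.resolve_left hσt], ?_, fun v => ?_⟩
  · rw [hB.smul_self, map_mul, map_mul, hB.conj.invol]
    linear_combination (t * σ t) * hl
  · rw [hg]
    simp only [map_smulₛₗ, LinearMap.smul_apply, smul_eq_mul, hB.conj.invol]
    match_scalars <;> ring

theorem IsEich.smul {t : F} (h : IsEich g d y l) (ht : t ≠ 0) :
    IsEich g (t • d) ((σ t)⁻¹ • y) ((t * σ t)⁻¹ * l) := by
  have h' : IsEich g (t⁻¹ • (t • d)) y l := by rwa [inv_smul_smul₀ ht]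
  have := h'.of_smul hB (inv_ne_zero ht)
  rwa [map_inv₀, ← mul_inv] at this

/-- An Eichler transformation has determinant one. -/
theorem IsEich.idet (h : IsEich g d y l) : idet B g = 1 := by
  obtain ⟨hd, hy, hl, hg⟩ := h
  have e : (g.1 : V →ₗ[F] V) =
      LinearMap.transvection (-(B y) + (l + B y y) • B d) d * LinearMap.transvection (B d) y := by
    refine LinearMap.ext fun v => ?_
    rw [Module.End.mul_apply, LinearMap.transvection.apply, LinearMap.transvection.apply]
    simp only [LinearEquiv.coe_coe, hg, LinearMap.add_apply, LinearMap.neg_apply, LinearMap.smul_apply,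
      smul_eq_mul, map_add, map_smul, hy]
    match_scalars <;> ring
  change LinearMap.det (g.1 : V →ₗ[F] V) = 1
  rw [e, map_mul, LinearMap.transvection.det, LinearMap.transvection.det]
  simp [hd, hy, flip_zero hB hy]

variable [Finite F]

theorem exists_isEich (hN : B.SeparatingRight) (hd : B d d = 0) (hy : B d y = 0)
    (hl : l + σ l + B y y = 0) : ∃ g : isomGroup B, IsEich g d y l := by
  let L : V →ₗ[F] V := LinearMap.id + (B d).smulRight y + (-(B y) + l • B d).smulRight d
  obtain ⟨g, hg⟩ := hB.exists_of_preserving hN L fun u v => by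
    simp only [L, LinearMap.add_apply, LinearMap.id_apply, LinearMap.smulRight_apply, LinearMap.neg_apply,
      LinearMap.smul_apply, smul_eq_mul, map_add, map_smul, map_smulₛₗ, map_neg, map_mul, hd, hy,
      flip_zero hB hy, hB.symm, mul_zero, add_zero, zero_add, zero_mul]
    linear_combination (B u d * B d v) * hl
  exact ⟨g, hd, hy, hl, fun v => by rw [hg]; simp [L]⟩

omit hB in
/-- Some Eichler transformation with parameters `d`, `y` lies in the subgroup. -/
def Has (H : Subgroup (isomGroup B)) (d y : V) : Prop := ∃ g ∈ H, ∃ l, IsEich g d y l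

omit hB in
/-- All transvections with centre `d` lie in the subgroup. -/
def TFull (H : Subgroup (isomGroup B)) (d : V) : Prop := ∀ g c, IsEich g d 0 c → g ∈ H

omit hB in
/-- All Eichler transformations with axis `d` lie in the subgroup. -/
def Full (H : Subgroup (isomGroup B)) (d : V) : Prop := ∀ g y l, IsEich g d y l → g ∈ H

omit hB in
/-- The exact root group of two orthogonal isotropic vectors lies in the subgroup. -/
def Line (H : Subgroup (isomGroup B)) (d y : V) : Prop :=
  B d d = 0 ∧ B y y = 0 ∧ B d y = 0 ∧ ∀ (c : F) g, IsEich g d (c • y) 0 → g ∈ H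

theorem Line.exists_mem (hN : B.SeparatingRight) (h : Line H d y) (c : F) :
    ∃ g ∈ H, IsEich g d (c • y) 0 := by
  obtain ⟨g, hg⟩ := exists_isEich hB hN (l := 0) h.1 (y := c • y) (by simp [h.2.2.1])
    (by rw [hB.smul_self, h.2.1]; simp)
  exact ⟨g, h.2.2.2 c g hg, hg⟩

theorem Line.has (hN : B.SeparatingRight) (h : Line H d y) (c : F) : Has H d (c • y) := by
  obtain ⟨g, hgH, hg⟩ := h.exists_mem hB hN c
  exact ⟨g, hgH, 0, hg⟩

theorem Line.smul (h : Line H d y) (t : F) : Line H d (t • y) :=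
  ⟨h.1, by rw [hB.smul_self, h.2.1]; simp, by simp [h.2.2.1], fun c g hg => h.2.2.2 (c * t) g (by rwa [← smul_smul])⟩

theorem Line.unsmul {t : F} (h : Line H d (t • y)) (ht : t ≠ 0) : Line H d y := by
  have := h.smul hB t⁻¹
  rwa [inv_smul_smul₀ ht] at this

theorem Line.smul_left (h : Line H d y) {t : F} (ht : t ≠ 0) : Line H (t • d) y := by
  refine ⟨by rw [hB.smul_self, h.1]; simp, h.2.1, by simp [h.2.2.1], fun c g hg => ?_⟩
  have := hg.of_smul hB ht
  rw [smul_smul, mul_zero] at this
  exact h.2.2.2 _ g this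

theorem Line.unsmul_left {t : F} (h : Line H (t • d) y) (ht : t ≠ 0) : Line H d y := by
  have := h.smul_left hB (inv_ne_zero ht)
  rwa [inv_smul_smul₀ ht] at this

theorem Line.map (h : Line H d y) {k : isomGroup B} (hk : k ∈ H) : Line H (k.1 d) (k.1 y) := by
  refine ⟨by rw [isomGroup_apply]; exact h.1, by rw [isomGroup_apply]; exact h.2.1,
    by rw [isomGroup_apply]; exact h.2.2.1, fun c g hg => ?_⟩
  have h1 := hg.conj hB k⁻¹
  rw [inv_inv, map_smul, show (k⁻¹).1 (k.1 d) = d from k.1.symm_apply_apply d,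
    show (k⁻¹).1 (k.1 y) = y from k.1.symm_apply_apply y] at h1
  have := mul_mem (mul_mem hk (h.2.2.2 c _ h1)) (inv_mem hk)
  rwa [show k * (k⁻¹ * g * k) * k⁻¹ = g by group] at this

theorem Line.swap (h : Line H d y) : Line H y d := by
  refine ⟨h.2.1, h.1, flip_zero hB h.2.2.1, fun c g hg => ?_⟩
  refine h.2.2.2 (-σ c) g ⟨h.1, by simp [h.2.2.1], by rw [hB.smul_self, h.2.1]; simp, fun v => ?_⟩
  rw [hg.2.2.2]
  simp only [map_neg, map_smulₛₗ, map_mul, LinearMap.smul_apply, LinearMap.neg_apply, smul_eq_mul,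
    hB.conj.invol]
  match_scalars <;> ring

omit hB in
theorem Has.zero (hd : B d d = 0) : Has H d 0 := ⟨1, one_mem _, 0, isEich_one hd⟩

theorem Has.add (h : Has H d y) (h' : Has H d y') : Has H d (y + y') := by
  obtain ⟨g, hg, l, he⟩ := h
  obtain ⟨g', hg', l', he'⟩ := h'
  exact ⟨g * g', mul_mem hg hg', _, he.mul hB he'⟩

theorem Has.neg (h : Has H d y) : Has H d (-y) := by
  obtain ⟨g, hg, l, he⟩ := h
  exact ⟨g⁻¹, inv_mem hg, _, he.inv hB⟩

theorem Has.sub (h : Has H d y) (h' : Has H d y') : Has H d (y - y') := by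
  rw [sub_eq_add_neg]; exact h.add hB (h'.neg hB)

theorem Has.map (h : Has H d y) {k : isomGroup B} (hk : k ∈ H) : Has H (k.1 d) (k.1 y) := by
  obtain ⟨g, hg, l, he⟩ := h
  exact ⟨k * g * k⁻¹, mul_mem (mul_mem hk hg) (inv_mem hk), l, he.conj hB k⟩

/-- Moving a parameter by an Eichler transformation fixing the axis. -/
theorem Has.step {k : isomGroup B} (hk : k ∈ H) (hkd : IsEich k d y l) (hde : B d e = 0)
    (hye : B y e = 0) (h : Has H e x) : Has H e (B d x • y + (-(B y x) + l * B d x) • d) := by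
  have h1 : k.1 e = e := by rw [hkd.2.2.2, hde, hye]; simp
  have h2 := h.map hB hk
  rw [h1, hkd.2.2.2] at h2
  have h3 := h2.sub hB h
  rwa [add_assoc, add_sub_cancel_left] at h3

/-- Exact root groups move to exact root groups. -/
theorem Line.step (hN : B.SeparatingRight) (hy : Line H d y) (hde : B d e = 0) (hye : B y e = 0)
    (hyx : B y x = 0) (hdx : B d x = 1) (hx : Line H e x) : Line H e y := by
  refine ⟨hx.1, hy.2.1, flip_zero hB hye, fun c g hg => ?_⟩
  obtain ⟨k, hkH, hk⟩ := hy.exists_mem hB hN c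
  obtain ⟨a, haH, ha⟩ := hx.exists_mem hB hN 1
  rw [one_smul] at ha
  have h1 : k.1 e = e := by rw [hk.2.2.2, hde]; simp [hye]
  have h2 : k.1 x = x + c • y := by rw [hk.2.2.2, hdx]; simp [hyx]
  have h3 := ha.conj hB k
  rw [h1, h2] at h3
  have h4 := h3.mul hB (ha.inv hB)
  have e1 : x + c • y + -x = c • y := by abel
  have e2 : 0 + σ 0 - B (x + c • y) (-x) = (0 : F) := by simp [hx.2.1, hyx]
  rw [e1, e2] at h4
  rw [hg.unique h4]
  exact mul_mem (mul_mem (mul_mem hkH haH) (inv_mem hkH)) (inv_mem haH)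

theorem TFull.smul (h : TFull H d) {t : F} (ht : t ≠ 0) : TFull H (t • d) := by
  intro g c hg
  have := hg.of_smul hB ht
  rw [smul_zero] at this
  exact h g _ this

theorem Full.smul (h : Full H d) {t : F} (ht : t ≠ 0) : Full H (t • d) :=
  fun g _ _ hg => h g _ _ (hg.of_smul hB ht)

theorem TFull.map (h : TFull H d) {k : isomGroup B} (hk : k ∈ H) : TFull H (k.1 d) := by
  intro g c hg
  have h1 := hg.conj hB k⁻¹
  rw [inv_inv, map_zero, show (k⁻¹).1 (k.1 d) = d from k.1.symm_apply_apply d] at h1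
  have := mul_mem (mul_mem hk (h _ _ h1)) (inv_mem hk)
  rwa [show k * (k⁻¹ * g * k) * k⁻¹ = g by group] at this

theorem Full.map (h : Full H d) {k : isomGroup B} (hk : k ∈ H) : Full H (k.1 d) := by
  intro g z c hg
  have h1 := hg.conj hB k⁻¹
  rw [inv_inv, show (k⁻¹).1 (k.1 d) = d from k.1.symm_apply_apply d] at h1
  have := mul_mem (mul_mem hk (h _ _ _ h1)) (inv_mem hk)
  rwa [show k * (k⁻¹ * g * k) * k⁻¹ = g by group] at this

/-- Commutators give all transvections. -/
theorem TFull.of_has (h : ∀ c : F, Has H d (c • y)) (h' : ∀ c : F, Has H d (c • y'))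
    (hyy : B y y' ≠ 0) : TFull H d := by
  intro g τ hg
  obtain ⟨u, hu⟩ := hB.conj.exists_trace_eq (a := (1 : F)) (map_one σ)
  have hτ : τ + σ τ = 0 := by simpa using hg.2.2.1
  obtain ⟨a, haH, l, ha⟩ := h 1
  rw [one_smul] at ha
  obtain ⟨b, hbH, l', hb⟩ := h' (-(τ * u) / B y y')
  have hc := (ha.mul hB hb).mul hB ((hb.mul hB ha).inv hB)
  have e1 : y + (-(τ * u) / B y y') • y' + -((-(τ * u) / B y y') • y' + y) = 0 := by abel
  rw [e1] at hc
  have key : g = a * b * (b * a)⁻¹ := by
    refine hg.unique (l := τ) ?_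
    convert hc using 1
    have hl := ha.2.2.1
    have hl' := hb.2.2.1
    simp only [map_add, map_neg, map_sub, LinearMap.add_apply, hB.symm]
    have ec : B y ((-(τ * u) / B y y') • y') = -(τ * u) := by
      rw [map_smul, smul_eq_mul, div_mul_cancel₀ _ hyy]
    have ec' : B ((-(τ * u) / B y y') • y') y = -(σ τ * σ u) := by
      rw [← hB.symm, ec, map_neg, map_mul]
    simp only [ec, ec'] at hl hl' ⊢
    linear_combination -hl - hl' + σ u * hτ - τ * hu
  rw [key]
  exact mul_mem (mul_mem haH hbH) (inv_mem (mul_mem hbH haH))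

theorem Full.of_has (hT : TFull H d) (h : ∀ z, B d z = 0 → Has H d z) : Full H d := by
  intro g z l hg
  obtain ⟨a, haH, l', ha⟩ := h z hg.2.1
  have h1 := hg.mul hB (ha.inv hB)
  rw [add_neg_cancel] at h1
  have := mul_mem (hT _ _ h1) haH
  rwa [inv_mul_cancel_right] at this

end

end CfsgLib.KnownA.HermTwoGen
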