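import Cfsg.Agent.Lib.KnownA.HermTwoGen.Eich

/-!
# Frames for Hermitian forms with a cyclic monomial isometry
-/

set_option autoImplicit false
set_option linter.unusedSectionVars false

namespace CfsgLib.KnownA.HermTwoGen

open Module CfsgLib.Classical

noncomputable section

variable {F : Type*} [Field F] {V : Type*} [AddCommGroup V] [Module F V] [FiniteDimensional F V]
  {σ : F →+* F}

/-- Hyperbolic pairs and two vectors spanning the rest. -/
structure HFrame (B : V →ₛₗ[σ] V →ₗ[F] F) (k : ℕ) where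
  /-- The first vectors. -/
  E : ℕ → V
  /-- The second vectors. -/
  Fv : ℕ → V
  /-- A vector in the rest. -/
  z : V
  /-- A second vector in the rest. -/
  z2 : V
  qE : ∀ i, i < k → B (E i) (E i) = 0
  qF : ∀ i, i < k → B (Fv i) (Fv i) = 0
  pEE : ∀ i, i < k → ∀ j, j < k → B (E i) (E j) = 0
  pFF : ∀ i, i < k → ∀ j, j < k → B (Fv i) (Fv j) = 0
  pEF : ∀ i, i < k → ∀ j, j < k → i ≠ j → B (E i) (Fv j) = 0
  pEF_self : ∀ i, i < k → B (E i) (Fv i) = 1
  pEz : ∀ i, i < k → B (E i) z = 0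
  pFz : ∀ i, i < k → B (Fv i) z = 0
  pEz2 : ∀ i, i < k → B (E i) z2 = 0
  pFz2 : ∀ i, i < k → B (Fv i) z2 = 0
  span_eq : ∀ x : V, x ∈ Submodule.span F (E '' Set.Iio k ∪ Fv '' Set.Iio k ∪ {z, z2})

variable {B : V →ₛₗ[σ] V →ₗ[F] F} {k : ℕ}

/-- The isometry `w` cycles the pairs and moves `z` to `z2`. -/
structure HCyc (R : HFrame B k) (w : isomGroup B) (s t r : F) : Prop where
  s_ne : s ≠ 0
  t_ne : t ≠ 0
  r_ne : r ≠ 0
  wE : ∀ i, i + 1 < k → w.1 (R.E i) = R.E (i + 1)
  wF : ∀ i, i + 1 < k → w.1 (R.Fv i) = R.Fv (i + 1)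
  wE_last : w.1 (R.E (k - 1)) = s • R.Fv 0
  wF_last : w.1 (R.Fv (k - 1)) = t • R.E 0
  wz : w.1 R.z = R.z2
  wz2 : w.1 R.z2 = r • R.z

variable {R : HFrame B k} {H : Subgroup (isomGroup B)} {w : isomGroup B} {s t r : F}
variable [Finite F] (hB : IsHermitian B)
include hB

theorem HFrame.pFE {i j : ℕ} (hi : i < k) (hj : j < k) (h : i ≠ j) : B (R.Fv i) (R.E j) = 0 :=
  flip_zero hB (R.pEF j hj i hi h.symm)

theorem HFrame.pFE_self {i : ℕ} (hi : i < k) : B (R.Fv i) (R.E i) = 1 := by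
  rw [← hB.symm, R.pEF_self i hi, map_one]

theorem HFrame.pzE {i : ℕ} (hi : i < k) : B R.z (R.E i) = 0 := flip_zero hB (R.pEz i hi)
theorem HFrame.pzF {i : ℕ} (hi : i < k) : B R.z (R.Fv i) = 0 := flip_zero hB (R.pFz i hi)
theorem HFrame.pz2E {i : ℕ} (hi : i < k) : B R.z2 (R.E i) = 0 := flip_zero hB (R.pEz2 i hi)
theorem HFrame.pz2F {i : ℕ} (hi : i < k) : B R.z2 (R.Fv i) = 0 := flip_zero hB (R.pFz2 i hi)

/-- Translates of a root group along the pairs. -/
theorem HCyc.lines (hC : HCyc R w s t r) (hw : w ∈ H) (hk : 2 ≤ k) (h : Line H (R.E 0) (R.E 1)) :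
    (∀ i, i + 1 < k → Line H (R.E i) (R.E (i + 1))) ∧
      (∀ i, i + 1 < k → Line H (R.Fv i) (R.Fv (i + 1))) ∧ Line H (R.E (k - 1)) (R.Fv 0) := by
  have hE : ∀ i, i + 1 < k → Line H (R.E i) (R.E (i + 1)) := by
    intro i
    induction i with
    | zero => intro _; exact h
    | succ i ih =>
      intro hi
      have := (ih (by omega)).map hB hw
      rwa [hC.wE i (by omega), hC.wE (i + 1) hi] at this
  have h1 := (hE (k - 2) (by omega)).map hB hw
  rw [hC.wE (k - 2) (by omega), show k - 2 + 1 = k - 1 by omega, hC.wE_last] at h1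
  have h1' := h1.unsmul hB hC.s_ne
  have h2 := h1'.map hB hw
  rw [hC.wE_last, hC.wF 0 (by omega)] at h2
  have h3 := h2.unsmul_left hB hC.s_ne
  refine ⟨hE, ?_, h1'⟩
  intro i
  induction i with
  | zero => intro _; exact h3
  | succ i ih =>
    intro hi
    have := (ih (by omega)).map hB hw
    rwa [hC.wF i (by omega), hC.wF (i + 1) hi] at this

/-- Full axes at all frame vectors. -/
theorem HCyc.full_all (hC : HCyc R w s t r) (hw : w ∈ H) (hk : 1 ≤ k) (h : Full H (R.E 0)) :
    (∀ i, i < k → Full H (R.E i)) ∧ ∀ i, i < k → Full H (R.Fv i) := by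
  have hE : ∀ i, i < k → Full H (R.E i) := by
    intro i
    induction i with
    | zero => intro _; exact h
    | succ i ih =>
      intro hi
      rw [← hC.wE i hi]
      exact (ih (by omega)).map hB hw
  refine ⟨hE, ?_⟩
  intro i
  induction i with
  | zero =>
    intro _
    have := (hE (k - 1) (by omega)).map hB hw
    rw [hC.wE_last] at this
    have h2 := this.smul hB (inv_ne_zero hC.s_ne)
    rwa [inv_smul_smul₀ hC.s_ne] at h2
  | succ i ih =>
    intro hi
    rw [← hC.wF i hi]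
    exact (ih (by omega)).map hB hw

variable (hN : B.SeparatingRight)
include hN

theorem exists_move {d p p' : V} (hd : B d d = 0) (hp : B p p = 0) (hp' : B p' p' = 0)
    (hpp : B p p' = 1) (hg : B p d ≠ 0) (hfull : Full H p) :
    ∃ g ∈ H, ∃ c : F, c ≠ 0 ∧ g.1 d = c • p' := by
  have hpp' : B p' p = 1 := by rw [← hB.symm, hpp, map_one]
  set γ := B p d with hγ
  set u := (-γ⁻¹) • (d - γ • p' - B p' d • p) with hu
  have hpu : B p u = 0 := by
    simp only [hu, map_smul, map_sub, smul_eq_mul, hp, hpp, ← hγ]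
    ring
  obtain ⟨l, hl⟩ := hB.conj.exists_trace_eq (a := -B u u) (by rw [map_neg, hB.self_fixed])
  obtain ⟨g, hg'⟩ := exists_isEich hB hN hp hpu (l := l) (by rw [hl]; ring)
  obtain ⟨X, hX⟩ : ∃ X : F, g.1 d = γ • p' + X • p := by
    refine ⟨B p' d + (-(B u d) + l * γ), ?_⟩
    rw [hg'.2.2.2, ← hγ, hu]
    match_scalars <;> field_simp <;> ring
  have hq := isomGroup_apply g d d
  rw [hX, hd] at hq
  simp only [map_add, map_smul, map_smulₛₗ, LinearMap.add_apply, LinearMap.smul_apply, smul_eq_mul,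
    hp, hp', hpp, hpp'] at hq
  have hσγ : σ γ ≠ 0 := (map_ne_zero σ).2 hg
  obtain ⟨T, hT⟩ := exists_isEich hB hN hp (map_zero (B p)) (l := -X / γ) (by
    simp only [map_zero, map_div₀, map_neg, add_zero]
    field_simp
    linear_combination -hq)
  refine ⟨T * g, mul_mem (hfull T _ _ hT) (hfull g _ _ hg'), γ, hg, ?_⟩
  show T.1 (g.1 d) = _
  rw [hX, hT.2.2.2]
  simp only [map_add, map_smul, map_zero, LinearMap.zero_apply, smul_eq_mul, hp, hpp, smul_zero, neg_zero]
  match_scalars <;> field_simp <;> ring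

/-- A full axis together with the cycle gives all transvections. -/
theorem HCyc.top_of (hC : HCyc R w s t r) (hw : w ∈ H) (hk : 1 ≤ k) (h : Full H (R.E 0)) :
    tGroup B ≤ H := by
  obtain ⟨hE, hF⟩ := hC.full_all hB hw hk h
  have key : ∀ d : V, B d d = 0 → ∀ i, i < k → (B (R.E i) d ≠ 0 ∨ B (R.Fv i) d ≠ 0) → Full H d := by
    intro d hd i hi hne
    rcases hne with hne | hne
    · obtain ⟨g, hg, c, hc, e⟩ := exists_move hB hN hd (R.qE i hi) (R.qF i hi) (R.pEF_self i hi) hne (hE i hi)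
      have h1 := ((hF i hi).smul hB hc).map hB (inv_mem hg)
      rwa [← e, show (g⁻¹).1 (g.1 d) = d from g.1.symm_apply_apply d] at h1
    · obtain ⟨g, hg, c, hc, e⟩ := exists_move hB hN hd (R.qF i hi) (R.qE i hi) (R.pFE_self hB hi) hne (hF i hi)
      have h1 := ((hE i hi).smul hB hc).map hB (inv_mem hg)
      rwa [← e, show (g⁻¹).1 (g.1 d) = d from g.1.symm_apply_apply d] at h1
  have hall : ∀ d : V, B d d = 0 → d ≠ 0 → Full H d := by
    intro d hd hd0
    by_cases hex : ∃ i, i < k ∧ (B (R.E i) d ≠ 0 ∨ B (R.Fv i) d ≠ 0)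
    · obtain ⟨i, hi, hne⟩ := hex
      exact key d hd i hi hne
    push Not at hex
    obtain ⟨x, hxe, hxd⟩ : ∃ x, B (R.E 0) x = 0 ∧ B x d ≠ 0 := by
      by_contra hne
      push Not at hne
      apply hd0
      refine hN d fun y => ?_
      have hy := R.span_eq y
      induction hy using Submodule.span_induction with
      | mem z hz =>
        rcases hz with (⟨i, hi, rfl⟩ | ⟨i, hi, rfl⟩) | rfl | rfl
        · exact (hex i hi).1
        · exact (hex i hi).2
        · exact hne _ (R.pEz 0 (by omega))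
        · exact hne _ (R.pEz2 0 (by omega))
      | zero => simp
      | add z z' _ _ hz hz' => simp [hz, hz']
      | smul c z _ hz => simp [hz]
    obtain ⟨l, hl⟩ := hB.conj.exists_trace_eq (a := -B x x) (by rw [map_neg, hB.self_fixed])
    obtain ⟨g, hg⟩ := exists_isEich hB hN (R.qE 0 (by omega)) hxe (l := l) (by rw [hl]; ring)
    have hgH : g ∈ H := h g _ _ hg
    have hgd : B (R.Fv 0) (g.1 d) ≠ 0 := by
      rw [hg.2.2.2, (hex 0 (by omega)).1]
      simp [(hex 0 (by omega)).2, R.pFE_self hB (show 0 < k by omega), hxd]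
    have := (key (g.1 d) (by rw [isomGroup_apply]; exact hd) 0 (by omega) (Or.inr hgd)).map hB (inv_mem hgH)
    rwa [show (g⁻¹).1 (g.1 d) = d from g.1.symm_apply_apply d] at this
  refine (Subgroup.closure_le _).2 ?_
  rintro g ⟨v, c, hg⟩
  by_cases hv : v = 0
  · subst hv
    have : g = 1 := Subtype.ext (LinearEquiv.ext fun x => by
      rw [hg.2.2]; show _ = x; simp)
    rw [this]
    exact H.one_mem
  · exact hall v hg.1 hv g _ _ (isEich_of_uTv hg)

end

end CfsgLib.KnownA.HermTwoGen
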