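import Cfsg.Agent.Lib.KnownA.HermTwoGen.Frame

/-!
# A torus element and a Siegel-times-monomial element generate
-/

set_option autoImplicit false
set_option linter.unusedSectionVars false

namespace CfsgLib.KnownA.HermTwoGen

open Module CfsgLib.Classical

noncomputable section

variable {F : Type*} [Field F] [Fintype F]

/-- An additive subgroup stable under an element of large order is everything. -/
theorem all_of_closed {q : ℕ} (hF : Fintype.card F = q ^ 2) (S : AddSubgroup F) {χ c : F} (hc : c ≠ 0)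
    (hcS : c ∈ S) (hmul : ∀ a ∈ S, χ * a ∈ S) (hχ : χ ≠ 0) (hord : q ≤ orderOf χ) (a : F) : a ∈ S := by
  classical
  have hq : 2 ≤ Fintype.card F := Fintype.one_lt_card
  let K : Subfield F :=
    { carrier := {x | ∀ a ∈ S, x * a ∈ S}
      one_mem' := fun a ha => by simpa using ha
      mul_mem' := fun {x y} hx hy a ha => by rw [mul_assoc]; exact hx _ (hy _ ha)
      zero_mem' := fun a _ => by simp
      add_mem' := fun {x y} hx hy a ha => by rw [add_mul]; exact S.add_mem (hx _ ha) (hy _ ha)
      neg_mem' := fun {x} hx a ha => by rw [neg_mul]; exact S.neg_mem (hx _ ha)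
      inv_mem' := fun x hx => by
        by_cases h0 : x = 0
        · subst h0; simp
        have hpow : ∀ j : ℕ, ∀ a ∈ S, x ^ j * a ∈ S := by
          intro j
          induction j with
          | zero => intro a ha; simpa using ha
          | succ j ih => intro a ha; rw [pow_succ, mul_assoc]; exact ih _ (hx _ ha)
        have e : x⁻¹ = x ^ (Fintype.card F - 2) := by
          refine inv_eq_of_mul_eq_one_right ?_
          rw [← pow_succ', show Fintype.card F - 2 + 1 = Fintype.card F - 1 by omega,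
            FiniteField.pow_card_sub_one_eq_one x h0]
        show ∀ a ∈ S, x⁻¹ * a ∈ S
        rw [e]
        exact hpow _ }
  have hχK : χ ∈ K := hmul
  have hcard : orderOf χ + 1 ≤ Fintype.card K := by
    let φ : Option (Fin (orderOf χ)) → K :=
      fun o => o.elim 0 fun i => ⟨χ ^ i.val, pow_mem hχK _⟩
    have hφ : Function.Injective φ := by
      rintro (_ | i) (_ | j) h
      · rfl
      · exact absurd (congrArg Subtype.val h).symm (pow_ne_zero _ hχ)
      · exact absurd (congrArg Subtype.val h) (pow_ne_zero _ hχ)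
      · exact congrArg some (Fin.ext (pow_injOn_Iio_orderOf i.2 j.2 (congrArg Subtype.val h)))
    simpa using Fintype.card_le_of_injective φ hφ
  have hpow := Module.card_eq_pow_finrank (K := K) (V := F)
  have htop : ∀ x : F, x ∈ K := by
    by_contra hne
    push Not at hne
    have hlt : Fintype.card K < Fintype.card F := by
      obtain ⟨x, hx⟩ := hne
      exact Fintype.card_lt_of_injective_of_notMem _ Subtype.val_injective (b := x)
        (by rintro ⟨y, rfl⟩; exact hx y.2)
    have hd : 2 ≤ Module.finrank K F := by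
      by_contra hd
      have : Module.finrank K F = 0 ∨ Module.finrank K F = 1 := by omega
      rcases this with h | h <;> rw [h] at hpow <;> simp at hpow <;> omega
    have : Fintype.card K ^ 2 ≤ q ^ 2 := by
      rw [← hF, hpow]
      exact Nat.pow_le_pow_right (by omega) hd
    have := (Nat.pow_le_pow_iff_left (by norm_num)).1 this
    omega
  have := htop (a / c) c hcS
  rwa [div_mul_cancel₀ _ hc] at this

variable {V : Type*} [AddCommGroup V] [Module F V] [FiniteDimensional F V] {σ : F →+* F}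
  {B : V →ₛₗ[σ] V →ₗ[F] F} (hB : IsHermitian B) (hN : B.SeparatingRight)
  {H : Subgroup (isomGroup B)}
include hB hN

/-- A diagonal conjugation rescales the parameter. -/
theorem conj_diag {g k : isomGroup B} {d y : V} {l a μ : F} (hg : IsEich g d y l) (ha : a ≠ 0)
    (hkd : k.1 d = a • d) (hky : k.1 y = μ • y) :
    IsEich (k * g * k⁻¹) d ((σ a * μ) • y) (a * σ a * l) := by
  have h := hg.conj hB k
  rw [hkd, hky] at h
  have := h.of_smul hB ha
  rwa [smul_smul] at this

/-- The data of the two generators. -/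
structure Gens (H : Subgroup (isomGroup B)) (d y : V) (h w u : isomGroup B) (a μ a' μ' : F) : Prop where
  a_ne : a ≠ 0
  a'_ne : a' ≠ 0
  hd : h.1 d = a • d
  hy : h.1 y = μ • y
  hd' : (w * h * w⁻¹).1 d = a' • d
  hy' : (w * h * w⁻¹).1 y = μ' • y
  comm : Commute h (w * h * w⁻¹)
  memh : h ∈ H
  memb : u * w ∈ H
  sep : σ a * μ ≠ 1
  sep' : σ a' * μ' ≠ 1

variable {d y : V} {h w u : isomGroup B} {a μ a' μ' l : F}

theorem Gens.iso (G : Gens H d y h w u a μ a' μ') (hu : IsEich u d y l) :
    ∃ g ∈ H, ∃ m, IsEich g d (((σ a * μ - 1) * (1 - σ a' * μ')) • y) m ∧ (B y y = 0 → l = 0 → m = 0) := by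
  set h' := w * h * w⁻¹ with hh'
  have ht : u * h' * u⁻¹ ∈ H := by
    have := mul_mem (mul_mem G.memb G.memh) (inv_mem G.memb)
    rwa [show u * w * h * (u * w)⁻¹ = u * h' * u⁻¹ by rw [hh']; group] at this
  have e : h * (u * h' * u⁻¹) * h⁻¹ * (u * h' * u⁻¹)⁻¹ =
      (h * u * h⁻¹) * ((h * h') * u⁻¹ * (h * h')⁻¹) * (h' * u * h'⁻¹) * u⁻¹ := by
    have hc := G.comm.eq
    calc h * (u * h' * u⁻¹) * h⁻¹ * (u * h' * u⁻¹)⁻¹
        = (h * u * h⁻¹) * ((h * h') * u⁻¹ * (h * h')⁻¹) * (h * h' * h⁻¹) * (u * h'⁻¹ * u⁻¹) := by group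
      _ = (h * u * h⁻¹) * ((h * h') * u⁻¹ * (h * h')⁻¹) * (h' * h * h⁻¹) * (u * h'⁻¹ * u⁻¹) := by rw [hc]
      _ = _ := by group
  have hgH := mul_mem (mul_mem (mul_mem G.memh ht) (inv_mem G.memh)) (inv_mem ht)
  rw [e] at hgH
  have h1 := conj_diag hB hN hu G.a_ne G.hd G.hy
  have h2 : IsEich ((h * h') * u⁻¹ * (h * h')⁻¹) d ((σ (a' * a) * (μ' * μ)) • -y)
      (a' * a * σ (a' * a) * σ l) :=
    conj_diag hB hN (hu.inv hB) (mul_ne_zero G.a'_ne G.a_ne)
      (by rw [Subgroup.coe_mul, LinearEquiv.mul_apply, G.hd', map_smul, G.hd, smul_smul])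
      (by rw [Subgroup.coe_mul, LinearEquiv.mul_apply, map_neg, map_neg, G.hy', map_smul, G.hy, smul_smul,
        smul_neg])
  have h3 := conj_diag hB hN hu G.a'_ne G.hd' G.hy'
  have h4 := ((h1.mul hB h2).mul hB h3).mul hB (hu.inv hB)
  have ey : (σ a * μ) • y + (σ (a' * a) * (μ' * μ)) • -y + (σ a' * μ') • y + -y =
      ((σ a * μ - 1) * (1 - σ a' * μ')) • y := by
    rw [map_mul]; module
  rw [ey] at h4
  refine ⟨_, hgH, _, h4, fun hyy hl => ?_⟩
  simp [hl, hyy]

/-- All multiples of an isotropic parameter, exactly. -/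
theorem Gens.line {q : ℕ} (hF : Fintype.card F = q ^ 2) (G : Gens H d y h w u a μ a' μ') (hμ : μ ≠ 0)
    (hu : IsEich u d y 0) (hyy : B y y = 0) (hord : q ≤ orderOf (σ a * μ)) : Line H d y := by
  obtain ⟨g0, hg0, m, he, hm⟩ := G.iso hB hN hu
  rw [hm hyy rfl] at he
  refine ⟨hu.1, hyy, hu.2.1, ?_⟩
  let S : AddSubgroup F :=
    { carrier := {c | ∀ g, IsEich g d (c • y) 0 → g ∈ H}
      zero_mem' := fun g hg => by
        rw [zero_smul] at hg
        rw [hg.unique (isEich_one hu.1)]; exact one_mem _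
      add_mem' := fun {c c'} hc hc' g hg => by
        obtain ⟨x, hx⟩ := exists_isEich hB hN (l := 0) hu.1 (y := c • y) (by simp [hu.2.1])
          (by rw [hB.smul_self, hyy]; simp)
        obtain ⟨x', hx'⟩ := exists_isEich hB hN (l := 0) hu.1 (y := c' • y) (by simp [hu.2.1])
          (by rw [hB.smul_self, hyy]; simp)
        have := hx.mul hB hx'
        rw [← add_smul, show (0 : F) + 0 - B (c • y) (c' • y) = 0 by simp [hyy]] at this
        rw [hg.unique this]
        exact mul_mem (hc _ hx) (hc' _ hx')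
      neg_mem' := fun {c} hc g hg => by
        obtain ⟨x, hx⟩ := exists_isEich hB hN (l := 0) hu.1 (y := c • y) (by simp [hu.2.1])
          (by rw [hB.smul_self, hyy]; simp)
        have := hx.inv hB
        rw [map_zero, ← neg_smul] at this
        rw [hg.unique this]
        exact inv_mem (hc _ hx) }
  have hmul : ∀ c ∈ S, σ a * μ * c ∈ S := by
    intro c hc g hg
    obtain ⟨x, hx⟩ := exists_isEich hB hN (l := 0) hu.1 (y := c • y) (by simp [hu.2.1])
      (by rw [hB.smul_self, hyy]; simp)
    have h1 := conj_diag hB hN hx G.a_ne G.hd (μ := μ) (by rw [map_smul, G.hy, smul_comm])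
    rw [mul_zero, smul_smul] at h1
    rw [hg.unique h1]
    exact mul_mem (mul_mem G.memh (hc _ hx)) (inv_mem G.memh)
  have hcS : (σ a * μ - 1) * (1 - σ a' * μ') ∈ S := fun g hg => by rw [hg.unique he]; exact hg0
  exact fun c => all_of_closed hF S (mul_ne_zero (sub_ne_zero.2 G.sep) (sub_ne_zero.2 G.sep'.symm)) hcS
    hmul (mul_ne_zero ((map_ne_zero σ).2 G.a_ne) hμ) hord c

/-- All multiples of the parameter. -/
theorem Gens.hasAll {q : ℕ} (hF : Fintype.card F = q ^ 2) (G : Gens H d y h w u a μ a' μ') (hμ : μ ≠ 0)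
    (hu : IsEich u d y l) (hord : q ≤ orderOf (σ a * μ)) (c : F) : Has H d (c • y) := by
  obtain ⟨g0, hg0, m, he, -⟩ := G.iso hB hN hu
  let S : AddSubgroup F :=
    { carrier := {c | Has H d (c • y)}
      zero_mem' := by show Has H d ((0 : F) • y); rw [zero_smul]; exact Has.zero hu.1
      add_mem' := fun {c c'} (hc : Has H d (c • y)) (hc' : Has H d (c' • y)) => by
        show Has H d ((c + c') • y); rw [add_smul]; exact hc.add hB hc'
      neg_mem' := fun {c} (hc : Has H d (c • y)) => by
        show Has H d ((-c) • y); rw [neg_smul]; exact hc.neg hB }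
  refine all_of_closed hF S (mul_ne_zero (sub_ne_zero.2 G.sep) (sub_ne_zero.2 G.sep'.symm))
    ⟨g0, hg0, m, he⟩ (fun c hc => ?_) (mul_ne_zero ((map_ne_zero σ).2 G.a_ne) hμ) hord c
  obtain ⟨x, hxH, m', hx⟩ := hc
  refine ⟨h * x * h⁻¹, mul_mem (mul_mem G.memh hxH) (inv_mem G.memh), a * σ a * m', ?_⟩
  have h1 := conj_diag hB hN hx G.a_ne G.hd (μ := μ) (by rw [map_smul, G.hy, smul_comm])
  rwa [smul_smul] at h1

omit hN in
theorem has_self (hd : B d d = 0) (c : F) : Has H d (c • d) := by
  refine ⟨1, one_mem _, σ c - c, hd, by simp [hd], ?_, fun v => ?_⟩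
  · rw [hB.smul_self, hd, map_sub, hB.conj.invol]; ring
  · show v = _
    simp only [map_smulₛₗ, LinearMap.smul_apply, smul_eq_mul]
    module

variable {k : ℕ} {R : HFrame B k} {s t r : F}

/-- From the multiples of all frame vectors everything follows. -/
theorem HCyc.finish (hC : HCyc R w s t r) (hw : w ∈ H) (hk : 1 ≤ k) (hT : TFull H (R.E 0))
    (hlines : ∀ i, 1 ≤ i → i < k → (∀ c : F, Has H (R.E 0) (c • R.E i)) ∧ ∀ c : F, Has H (R.E 0) (c • R.Fv i))
    (hz : ∀ c : F, Has H (R.E 0) (c • R.z)) (hz2 : ∀ c : F, Has H (R.E 0) (c • R.z2)) :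
    tGroup B ≤ H := by
  refine hC.top_of hB hN hw hk (Full.of_has hB hT fun x hx => ?_)
  have hd := R.qE 0 (by omega)
  have key : ∃ c : F, ∃ z, (∀ c' : F, Has H (R.E 0) (c' • z)) ∧ B (R.E 0) z = 0 ∧ x = z + c • R.Fv 0 := by
    have hx' := R.span_eq x
    clear hx
    induction hx' using Submodule.span_induction with
    | mem v hv =>
      rcases hv with (⟨i, hi, rfl⟩ | ⟨i, hi, rfl⟩) | rfl | rfl
      · refine ⟨0, R.E i, ?_, R.pEE 0 (by omega) i hi, by simp⟩
        rcases Nat.eq_zero_or_pos i with rfl | hi0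
        · exact fun c => has_self hB hd c
        · exact (hlines i hi0 hi).1
      · rcases Nat.eq_zero_or_pos i with rfl | hi0
        · exact ⟨1, 0, fun c => by rw [smul_zero]; exact Has.zero hd, map_zero _, by simp⟩
        · exact ⟨0, R.Fv i, (hlines i hi0 hi).2, R.pEF 0 (by omega) i hi (by omega), by simp⟩
      · exact ⟨0, _, hz, R.pEz 0 (by omega), by simp⟩
      · exact ⟨0, _, hz2, R.pEz2 0 (by omega), by simp⟩
    | zero => exact ⟨0, 0, fun c => by rw [smul_zero]; exact Has.zero hd, map_zero _, by simp⟩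
    | add v v' _ _ h1 h2 =>
      obtain ⟨c, z, hz, hz0, rfl⟩ := h1
      obtain ⟨c', z', hz', hz0', rfl⟩ := h2
      exact ⟨c + c', z + z', fun e => by rw [smul_add]; exact (hz e).add hB (hz' e),
        by rw [map_add, hz0, hz0', add_zero], by module⟩
    | smul e v _ h1 =>
      obtain ⟨c, z, hz, hz0, rfl⟩ := h1
      exact ⟨e * c, e • z, fun c' => by rw [smul_smul]; exact hz _, by rw [map_smul, hz0, smul_zero],
        by module⟩
  obtain ⟨c, z, hz, hz0, rfl⟩ := key
  rw [map_add, hz0, map_smul, R.pEF_self 0 (by omega), zero_add, smul_eq_mul, mul_one] at hx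
  rw [hx, zero_smul, add_zero, ← one_smul F z]
  exact hz 1

/-- An even number of pairs and nothing else. -/
theorem HCyc.even_case (hC : HCyc R w s t r) (hw : w ∈ H) (hk : 2 ≤ k) (hke : Even k)
    (hz : R.z = 0) (hz2 : R.z2 = 0) (h1 : Line H (R.E 0) (R.E 1)) : tGroup B ≤ H := by
  obtain ⟨lE, lF, lW⟩ := hC.lines hB hw hk h1
  have hd := R.qE 0 (by omega)
  have chain : ∀ i, 1 ≤ i → i < k → (i % 2 = 1 → Line H (R.E 0) (R.E i)) ∧
      (i % 2 = 0 → Line H (R.E 0) (R.Fv i)) := by
    intro i hi1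
    induction i, hi1 using Nat.le_induction with
    | base => intro _; exact ⟨fun _ => h1, fun h => absurd h (by omega)⟩
    | succ i hi ih =>
      intro hlt
      obtain ⟨gE, gF⟩ := ih (by omega)
      constructor
      · intro hpar
        exact Line.step hB hN (lE i hlt) (R.pEE i (by omega) 0 (by omega)) (R.pEE _ hlt 0 (by omega))
          (R.pEF _ hlt i (by omega) (by omega)) (R.pEF_self i (by omega)) (gF (by omega))
      · intro hpar
        exact Line.step hB hN (lF i hlt) (R.pFE hB (by omega) (by omega) (by omega))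
          (R.pFE hB hlt (by omega) (by omega)) (R.pFE hB hlt (by omega) (by omega))
          (R.pFE_self hB (by omega)) (gE (by omega))
  obtain ⟨m, hm⟩ := hke
  have hlast := ((chain (k - 1) (by omega) (by omega)).1 (by omega)).swap hB
  have hTlast : TFull H (R.E (k - 1)) := TFull.of_has hB (fun c => hlast.has hB hN c)
    (fun c => lW.has hB hN c) (by rw [R.pEF_self 0 (by omega)]; exact one_ne_zero)
  have hTdown : ∀ j, j ≤ k - 1 → TFull H (R.E (k - 1 - j)) := by
    intro j
    induction j with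
    | zero => intro _; exact hTlast
    | succ j ih =>
      intro hj
      have h2 := (ih (by omega)).map hB (inv_mem hw)
      rwa [show k - 1 - j = (k - 1 - (j + 1)) + 1 by omega, ← hC.wE _ (by omega),
        show (w⁻¹).1 (w.1 (R.E (k - 1 - (j + 1)))) = R.E (k - 1 - (j + 1)) from
          w.1.symm_apply_apply _] at h2
  have hT : TFull H (R.E 0) := by simpa using hTdown (k - 1) le_rfl
  have hTF1 : TFull H (R.Fv 1) := by
    have h2 := hTlast.map hB hw
    rw [hC.wE_last] at h2
    have h3 := (h2.smul hB (inv_ne_zero hC.s_ne)).map hB hw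
    rwa [inv_smul_smul₀ hC.s_ne, hC.wF 0 (by omega)] at h3
  have hF1 : ∀ c : F, Has H (R.E 0) (c • R.Fv 1) := by
    obtain ⟨τ, hτ, hτ'⟩ := hB.conj.exists_trace_zero
    obtain ⟨g, hg⟩ := exists_isEich hB hN (R.qF 1 (by omega)) (map_zero _) (l := τ) (by simpa using hτ')
    intro c
    have := Has.step hB (hTF1 g τ hg) hg (R.pFE hB (by omega) (by omega) (by omega)) (by simp)
      (h1.has hB hN (c / τ))
    simpa [R.pFE_self hB (show 1 < k by omega), mul_div_cancel₀ c hτ] using this
  refine hC.finish hB hN hw (by omega) hT ?_ (fun c => by rw [hz, smul_zero]; exact Has.zero hd)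
    (fun c => by rw [hz2, smul_zero]; exact Has.zero hd)
  intro i hi1
  induction i, hi1 using Nat.le_induction with
  | base => intro _; exact ⟨h1.has hB hN, hF1⟩
  | succ i hi ih =>
    intro hlt
    obtain ⟨gE, gF⟩ := ih (by omega)
    constructor <;> intro c
    · obtain ⟨g, hgH, hg⟩ := (lE i hlt).exists_mem hB hN 1
      rw [one_smul] at hg
      have := Has.step hB hgH hg (R.pEE i (by omega) 0 (by omega)) (R.pEE _ hlt 0 (by omega)) (gF c)
      simpa [R.pEF_self i (by omega), R.pEF (i + 1) hlt i (by omega) (by omega)] using this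
    · obtain ⟨g, hgH, hg⟩ := (lF i hlt).exists_mem hB hN 1
      rw [one_smul] at hg
      have := Has.step hB hgH hg (R.pFE hB (by omega) (by omega) (by omega))
        (R.pFE hB hlt (by omega) (by omega)) (gE c)
      simpa [R.pFE_self hB (show i < k by omega), R.pFE hB hlt (show i < k by omega) (by omega)] using this

/-- An even number of pairs and an exchanged isotropic pair. -/
theorem HCyc.pair_case (hC : HCyc R w s t r) (hw : w ∈ H) (hk : 2 ≤ k) (hke : Even k)
    (hzz : B R.z R.z = 0) (hzz2 : B R.z R.z2 ≠ 0) (hz2z2 : B R.z2 R.z2 = 0)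
    (h0 : Line H (R.E 0) R.z) : tGroup B ≤ H := by
  have hd := R.qE 0 (by omega)
  have hz2z : B R.z2 R.z ≠ 0 := fun e => hzz2 (flip_zero hB e)
  have lE : ∀ i, i < k → (i % 2 = 0 → Line H (R.E i) R.z) ∧ (i % 2 = 1 → Line H (R.E i) R.z2) := by
    intro i
    induction i with
    | zero => intro _; exact ⟨fun _ => h0, fun h => absurd h (by omega)⟩
    | succ i ih =>
      intro hi
      constructor <;> intro hp
      · have := ((ih (by omega)).2 (by omega)).map hB hw
        rw [hC.wE i hi, hC.wz2] at this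
        exact this.unsmul hB hC.r_ne
      · have := ((ih (by omega)).1 (by omega)).map hB hw
        rwa [hC.wE i hi, hC.wz] at this
  obtain ⟨m, hm⟩ := hke
  have lF : ∀ i, i < k → (i % 2 = 0 → Line H (R.Fv i) R.z) ∧ (i % 2 = 1 → Line H (R.Fv i) R.z2) := by
    intro i
    induction i with
    | zero =>
      intro _
      refine ⟨fun _ => ?_, fun h => absurd h (by omega)⟩
      have := ((lE (k - 1) (by omega)).2 (by omega)).map hB hw
      rw [hC.wE_last, hC.wz2] at this
      exact (this.unsmul hB hC.r_ne).unsmul_left hB hC.s_ne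
    | succ i ih =>
      intro hi
      constructor <;> intro hp
      · have := ((ih (by omega)).2 (by omega)).map hB hw
        rw [hC.wF i hi, hC.wz2] at this
        exact this.unsmul hB hC.r_ne
      · have := ((ih (by omega)).1 (by omega)).map hB hw
        rwa [hC.wF i hi, hC.wz] at this
  have move : ∀ v p q : V, B v (R.E 0) = 0 → B p (R.E 0) = 0 → B v q = 0 → B p q ≠ 0 → Line H v p →
      (∀ c : F, Has H (R.E 0) (c • q)) → ∀ c : F, Has H (R.E 0) (c • v) := by
    intro v p q hv hp hvq hpq hl hq c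
    obtain ⟨g, hgH, hg⟩ := hl.exists_mem hB hN 1
    rw [one_smul] at hg
    have := Has.step hB hgH hg hv hp (hq (-c / B p q))
    simpa [hvq, neg_div, div_mul_cancel₀ c hpq] using this
  have hz : ∀ c : F, Has H (R.E 0) (c • R.z) := h0.has hB hN
  have n1 : 1 < k := by omega
  have hE1 := move _ _ _ (R.pEE 1 n1 0 (by omega)) (R.pz2E hB (by omega)) (R.pEz 1 n1) hz2z
    ((lE 1 n1).2 (by omega)) hz
  have hF1 := move _ _ _ (R.pFE hB n1 (by omega) (by omega)) (R.pz2E hB (by omega)) (R.pFz 1 n1) hz2z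
    ((lF 1 n1).2 (by omega)) hz
  have hT : TFull H (R.E 0) :=
    TFull.of_has hB hE1 hF1 (by rw [R.pEF_self 1 n1]; exact one_ne_zero)
  have hz2 : ∀ c : F, Has H (R.E 0) (c • R.z2) := by
    intro c
    obtain ⟨g, hgH, hg⟩ := ((lE 1 n1).2 (by omega)).exists_mem hB hN 1
    rw [one_smul] at hg
    have := Has.step hB hgH hg (R.pEE 1 n1 0 (by omega)) (R.pz2E hB (by omega)) (hF1 c)
    simpa [R.pEF_self 1 n1, R.pz2F hB n1] using this
  refine hC.finish hB hN hw (by omega) hT (fun i _ hi => ?_) hz hz2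
  rcases Nat.mod_two_eq_zero_or_one i with hp | hp
  · exact ⟨move _ _ _ (R.pEE i hi 0 (by omega)) (R.pzE hB (by omega)) (R.pEz2 i hi) hzz2
      ((lE i hi).1 hp) hz2, move _ _ _ (R.pFE hB hi (by omega) (by omega)) (R.pzE hB (by omega))
      (R.pFz2 i hi) hzz2 ((lF i hi).1 hp) hz2⟩
  · exact ⟨move _ _ _ (R.pEE i hi 0 (by omega)) (R.pz2E hB (by omega)) (R.pEz i hi) hz2z
      ((lE i hi).2 hp) hz, move _ _ _ (R.pFE hB hi (by omega) (by omega)) (R.pz2E hB (by omega))
      (R.pFz i hi) hz2z ((lF i hi).2 hp) hz⟩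

/-- A fixed non-isotropic vector besides the pairs. -/
theorem HCyc.odd_case (hC : HCyc R w s t r) (hw : w ∈ H) (hk : 1 ≤ k) (hz2 : R.z2 = R.z)
    (hzz : B R.z R.z ≠ 0) (hT : TFull H (R.E 0)) (h0 : ∀ c : F, Has H (R.E 0) (c • R.z)) :
    tGroup B ≤ H := by
  have wz : w.1 R.z = R.z := by rw [hC.wz, hz2]
  have lE : ∀ i, i < k → ∀ c : F, Has H (R.E i) (c • R.z) := by
    intro i
    induction i with
    | zero => intro _; exact h0
    | succ i ih =>
      intro hi c
      have := (ih (by omega) c).map hB hw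
      rwa [hC.wE i hi, map_smul, wz] at this
  have lF : ∀ i, i < k → ∀ c : F, Has H (R.Fv i) (c • R.z) := by
    intro i
    induction i with
    | zero =>
      intro _ c
      have := (lE (k - 1) (by omega) (c / σ s)).map hB hw
      rw [hC.wE_last, map_smul, wz] at this
      obtain ⟨g, hgH, l, hg⟩ := this
      refine ⟨g, hgH, s * σ s * l, ?_⟩
      have h2 := hg.of_smul hB hC.s_ne
      rwa [smul_smul, mul_div_cancel₀ c ((map_ne_zero σ).2 hC.s_ne)] at h2
    | succ i ih =>
      intro hi c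
      have := (ih (by omega) c).map hB hw
      rwa [hC.wF i hi, map_smul, wz] at this
  have move : ∀ v : V, B v (R.E 0) = 0 → B v R.z = 0 → (∀ c : F, Has H v (c • R.z)) →
      ∀ c : F, Has H (R.E 0) (c • v) := by
    intro v hv hvz hl c
    obtain ⟨g, hgH, l, hg⟩ := hl 1
    rw [one_smul] at hg
    have := Has.step hB hgH hg hv (R.pzE hB (by omega)) (h0 (-c / B R.z R.z))
    simpa [hvz, neg_div, div_mul_cancel₀ c hzz] using this
  refine hC.finish hB hN hw hk hT (fun i hi1 hi => ?_) h0 (by rw [hz2]; exact h0)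
  exact ⟨move _ (R.pEE i hi 0 (by omega)) (R.pEz i hi) (lE i hi),
    move _ (R.pFE hB hi (by omega) (by omega)) (R.pFz i hi) (lF i hi)⟩

end

end CfsgLib.KnownA.HermTwoGen
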