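import Cfsg.Agent.Lib.KnownA.HermTwoGen.Build

/-!
# The special unitary groups are two-generated
-/

set_option autoImplicit false
set_option linter.unusedSectionVars false

namespace CfsgLib.KnownA.HermTwoGen

open Module CfsgLib.Classical

noncomputable section

variable {F : Type*} [Field F] [Fintype F] {σ : F →+* F} {n : ℕ}

/-- Standard basis vectors indexed by natural numbers. -/
def bas (n : ℕ) (i : ℕ) : Fin n → F := fun j => if j.val = i then 1 else 0

theorem bas_form {i j : ℕ} (hi : i < n) :
    stdHerm σ n (bas n i) (bas n j) = if i = j then 1 else 0 := by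
  rw [stdHerm_apply, Finset.sum_eq_single ⟨i, hi⟩]
  · simp [bas]
  · intro b _ hb
    have : b.val ≠ i := fun e => hb (Fin.ext e)
    simp [bas, this]
  · simp

/-- The vectors `e_i`. -/
def eVec (n : ℕ) (c : F) (i : ℕ) : Fin n → F := bas n (2 * i) + c • bas n (2 * i + 1)

/-- The vectors `f_i`. -/
def fVec (n : ℕ) (σ : F →+* F) (a c : F) (i : ℕ) : Fin n → F :=
  σ a • bas n (2 * i) + (-(a * c)) • bas n (2 * i + 1)

theorem ee {a c : F} (hc : c * σ c = -1) {i j : ℕ} (hi : 2 * i + 1 < n) :
    stdHerm σ n (eVec n c i) (eVec n c j) = 0 := by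
  simp only [eVec, map_add, map_smul, map_smulₛₗ, LinearMap.add_apply, LinearMap.smul_apply, smul_eq_mul,
    bas_form (show 2 * i < n by omega), bas_form hi]
  by_cases h : i = j
  · subst h; simp; linear_combination hc
  · simp [h, show 2 * i + 1 ≠ 2 * j by omega, show 2 * i ≠ 2 * j + 1 by omega]

theorem ff (hc' : IsConjugation σ) {a c : F} (hc : c * σ c = -1) {i j : ℕ} (hi : 2 * i + 1 < n) :
    stdHerm σ n (fVec n σ a c i) (fVec n σ a c j) = 0 := by
  simp only [fVec, map_add, map_smul, map_smulₛₗ, LinearMap.add_apply, LinearMap.smul_apply, smul_eq_mul,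
    bas_form (show 2 * i < n by omega), bas_form hi, hc'.invol]
  by_cases h : i = j
  · subst h
    simp [map_mul, hc'.invol]
    linear_combination (a * σ a) * hc
  · simp [h, show 2 * i + 1 ≠ 2 * j by omega, show 2 * i ≠ 2 * j + 1 by omega]

theorem ef {a c : F} (ha : a + σ a = 1) (hc : c * σ c = -1) {i j : ℕ} (hi : 2 * i + 1 < n) :
    stdHerm σ n (eVec n c i) (fVec n σ a c j) = if i = j then 1 else 0 := by
  simp only [eVec, fVec, map_add, map_smul, map_smulₛₗ, LinearMap.add_apply, LinearMap.smul_apply,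
    smul_eq_mul, bas_form (show 2 * i < n by omega), bas_form hi]
  by_cases h : i = j
  · subst h
    simp
    linear_combination -a * hc + ha
  · simp [h, show 2 * i + 1 ≠ 2 * j by omega, show 2 * i ≠ 2 * j + 1 by omega]

theorem bas_mem {k : ℕ} {a c : F} (ha : a + σ a = 1) (hc : c * σ c = -1) {S : Set (Fin n → F)}
    (hE : ∀ i, i < k → eVec n c i ∈ Submodule.span F S)
    (hF : ∀ i, i < k → fVec n σ a c i ∈ Submodule.span F S)
    {i : ℕ} (hi : i < 2 * k) : bas n i ∈ Submodule.span F S := by
  have hc0 : c ≠ 0 := fun e => by simp [e] at hc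
  have h1 : ∀ j, j < k → bas n (2 * j + 1) ∈ Submodule.span F S := fun j hj => by
    have e : bas n (2 * j + 1) = (-c)⁻¹ • (fVec n σ a c j - σ a • eVec n c j) := by
      rw [eq_inv_smul_iff₀ (neg_ne_zero.2 hc0), eVec, fVec]
      match_scalars
      · linear_combination (c : F) * ha
      · ring
    rw [e]
    exact Submodule.smul_mem _ _ (Submodule.sub_mem _ (hF j hj) (Submodule.smul_mem _ _ (hE j hj)))
  rcases Nat.even_or_odd' i with ⟨j, rfl | rfl⟩
  · have e : (bas n (2 * j) : Fin n → F) = eVec n c j - c • bas n (2 * j + 1) := by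
      rw [eVec]; module
    rw [e]
    exact Submodule.sub_mem _ (hE j (by omega)) (Submodule.smul_mem _ _ (h1 j (by omega)))
  · exact h1 j (by omega)

/-- The frame from the standard basis. -/
def stdFrame (hσc : IsConjugation σ) {a c : F} (ha : a + σ a = 1) (hc : c * σ c = -1) (k : ℕ)
    (z z2 : Fin n → F) (hkn : 2 * k ≤ n)
    (hz : ∀ i, i < 2 * k → stdHerm σ n (bas n i) z = 0)
    (hz2 : ∀ i, i < 2 * k → stdHerm σ n (bas n i) z2 = 0)
    (hspan : ∀ i, 2 * k ≤ i → i < n → bas n i ∈ Submodule.span F ({z, z2} : Set (Fin n → F))) :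
    HFrame (stdHerm σ n) k where
  E := eVec n c
  Fv := fVec n σ a c
  z := z
  z2 := z2
  qE i hi := ee (a := a) hc (by omega)
  qF i hi := ff hσc hc (by omega)
  pEE i hi j _ := ee (a := a) hc (by omega)
  pFF i hi j _ := ff hσc hc (by omega)
  pEF i hi j _ h := by rw [ef ha hc (by omega), if_neg h]
  pEF_self i hi := by rw [ef ha hc (by omega), if_pos rfl]
  pEz i hi := by simp [eVec, hz (2 * i) (by omega), hz (2 * i + 1) (by omega)]
  pFz i hi := by simp [fVec, hz (2 * i) (by omega), hz (2 * i + 1) (by omega)]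
  pEz2 i hi := by simp [eVec, hz2 (2 * i) (by omega), hz2 (2 * i + 1) (by omega)]
  pFz2 i hi := by simp [fVec, hz2 (2 * i) (by omega), hz2 (2 * i + 1) (by omega)]
  span_eq x := by
    set S := eVec n c '' Set.Iio k ∪ fVec n σ a c '' Set.Iio k ∪ {z, z2}
    have hmem : ∀ i, i < n → bas n i ∈ Submodule.span F S := fun i hi => by
      by_cases h : i < 2 * k
      · exact bas_mem ha hc (fun j hj => Submodule.subset_span (Or.inl (Or.inl ⟨j, hj, rfl⟩)))
          (fun j hj => Submodule.subset_span (Or.inl (Or.inr ⟨j, hj, rfl⟩))) h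
      · exact Submodule.span_mono (fun v hv => Or.inr hv) (hspan i (by omega) hi)
    rw [pi_eq_sum_univ' x]
    refine Submodule.sum_mem _ fun j _ => Submodule.smul_mem _ _ ?_
    have e : (Pi.single j (1 : F) : Fin n → F) = bas n j.val := by
      funext l; simp [bas, Pi.single_apply, Fin.val_inj]
    rw [e]
    exact hmem _ j.2

theorem su_two {q : ℕ} (hF : Fintype.card F = q ^ 2) (hσ : ∀ x, σ x = x ^ q) (hσc : IsConjugation σ)
    (hn : 3 ≤ n) (h32 : n = 3 → q ≠ 2) :
    ∃ a b : isomGroup (stdHerm σ n), Subgroup.closure {a, b} = sIsom (stdHerm σ n) := by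
  have hB := stdHerm_isHermitian hσc n
  have hN := stdHerm_sepRight (σ := σ) n
  have hq := two_le_of_card_sq hF
  have hsI : sIsom (stdHerm σ n) = tGroup (stdHerm σ n) := hB.sIsom_eq_tGroup hN fun _ => by
    rcases Nat.lt_or_ge 3 n with h | h
    · right; simp; omega
    · left; exact bigFixed_of_le hF hσ hσc (by have := h32 (by omega); omega)
  obtain ⟨a, ha⟩ := hσc.exists_trace_eq (a := (1 : F)) (map_one σ)
  obtain ⟨c, hc⟩ := hσc.exists_norm_eq (a := (-1 : F)) (by rw [map_neg, map_one])
  rcases Nat.even_or_odd' n with ⟨m, hm | hm⟩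
  · rcases Nat.even_or_odd m with hme | hmo
    · let R := stdFrame (n := n) hσc ha hc m 0 0 (by omega) (fun _ _ => map_zero _) (fun _ _ => map_zero _)
        (fun i h1 h2 => absurd h1 (by omega))
      exact even_gen hB hN R hF hσ (by omega) hme rfl rfl hsI
    · obtain ⟨j, hj⟩ := hmo
      obtain ⟨β, hβ, hβ'⟩ := hσc.exists_trace_zero
      have hk : 2 * (2 * j) + 1 < n := by omega
      let R := stdFrame (n := n) hσc ha hc (2 * j) (eVec n c (2 * j)) (β • fVec n σ a c (2 * j)) (by omega)
        (fun i hi => by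
          simp [eVec, bas_form (show i < n by omega), show i ≠ 2 * (2 * j) by omega,
            show i ≠ 2 * (2 * j) + 1 by omega])
        (fun i hi => by
          simp [fVec, bas_form (show i < n by omega), show i ≠ 2 * (2 * j) by omega,
            show i ≠ 2 * (2 * j) + 1 by omega])
        (fun i h1 h2 => by
          have hc0 : c ≠ 0 := fun e => by simp [e] at hc
          set S := ({eVec n c (2 * j), β • fVec n σ a c (2 * j)} : Set (Fin n → F))
          have hE : eVec n c (2 * j) ∈ Submodule.span F S := Submodule.subset_span (Or.inl rfl)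
          have hFv : fVec n σ a c (2 * j) ∈ Submodule.span F S := by
            rw [← inv_smul_smul₀ hβ (fVec n σ a c (2 * j))]
            exact Submodule.smul_mem _ _ (Submodule.subset_span (Or.inr rfl))
          have h1' : bas n (2 * (2 * j) + 1) ∈ Submodule.span F S := by
            have e : bas n (2 * (2 * j) + 1) =
                (-c)⁻¹ • (fVec n σ a c (2 * j) - σ a • eVec n c (2 * j)) := by
              rw [eq_inv_smul_iff₀ (neg_ne_zero.2 hc0), eVec, fVec]
              match_scalars
              · linear_combination (c : F) * ha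
              · ring
            rw [e]
            exact Submodule.smul_mem _ _ (Submodule.sub_mem _ hFv (Submodule.smul_mem _ _ hE))
          rcases (show i = 2 * (2 * j) ∨ i = 2 * (2 * j) + 1 by omega) with rfl | rfl
          · have e : (bas n (2 * (2 * j)) : Fin n → F) =
                eVec n c (2 * j) - c • bas n (2 * (2 * j) + 1) := by rw [eVec]; module
            rw [e]
            exact Submodule.sub_mem _ hE (Submodule.smul_mem _ _ h1')
          · exact h1')
      exact pair_gen hB hN R hF hσ (by omega) (even_two_mul j) hβ hβ' (f := fVec n σ a c (2 * j))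
        (ff hσc hc hk) (ee (a := a) hc hk) (show stdHerm σ n (eVec n c (2 * j)) _ = 1 by
          rw [ef ha hc hk, if_pos rfl]) rfl hsI
  · let R := stdFrame (n := n) hσc ha hc m (bas n (2 * m)) (bas n (2 * m)) (by omega)
      (fun i hi => by rw [bas_form (by omega), if_neg (by omega)])
      (fun i hi => by rw [bas_form (by omega), if_neg (by omega)])
      (fun i h1 h2 => Submodule.subset_span (by left; rw [show i = 2 * m by omega]))
    exact odd_gen hB hN R hF hσ (by omega) (fun h => by have := h32 (by omega); omega) rfl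
      (show stdHerm σ n (bas n (2 * m)) (bas n (2 * m)) ≠ 0 by
        rw [bas_form (by omega), if_pos rfl]; exact one_ne_zero) hsI

theorem psu_two {q : ℕ} (hF : Fintype.card F = q ^ 2) (hn : 3 ≤ n) (h32 : n = 3 → q ≠ 2) :
    ∃ a b : Cfsg.PSU n F q, Subgroup.closure ({a, b} : Set (Cfsg.PSU n F q)) = ⊤ := by
  obtain ⟨σ, hσ, hc⟩ := exists_frob hF
  obtain ⟨a, b, hab⟩ := su_two (n := n) hF hσ hc hn h32
  set S := sIsom (stdHerm σ n)
  have ha : a ∈ S := hab ▸ Subgroup.subset_closure (by simp)
  have hb : b ∈ S := hab ▸ Subgroup.subset_closure (by simp)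
  have htop : Subgroup.closure ({⟨a, ha⟩, ⟨b, hb⟩} : Set ↥S) = ⊤ := by
    apply Subgroup.map_injective S.subtype_injective
    rw [MonoidHom.map_closure, Set.image_pair, ← MonoidHom.range_eq_map, Subgroup.range_subtype]
    exact hab
  let f : ↥S →* Cfsg.PSU n F q :=
    (QuotientGroup.mk' (Subgroup.center (Cfsg.SU n F q))).comp (suEquiv (n := n) hσ).symm.toMonoidHom
  have hf : Function.Surjective f :=
    (QuotientGroup.mk'_surjective _).comp (suEquiv (n := n) hσ).symm.surjective
  refine ⟨f ⟨a, ha⟩, f ⟨b, hb⟩, ?_⟩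
  rw [← Set.image_pair, ← MonoidHom.map_closure, htop, Subgroup.map_top_of_surjective f hf]

end

end CfsgLib.KnownA.HermTwoGen
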